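import Cfsg.Agent.H845.K547.Jordan

/-!
# S4547: extensions of degree two, from invariant homomorphisms (helper189)

`d3_autExt_two` : `S` simple, `τ` outer, `τ²` inner, every Sylow 2-subgroup `P` of `S` with `α P = P`, `α ∈ AutExt τ`, has an
`α`-invariant homomorphism onto the four-group ⟹ `D3 (AutExt τ)` (the transfer lemma of helper845).
-/

set_option autoImplicit false
set_option linter.unusedSectionVars false

namespace Cfsg.Agent.H189.K547.Ext

open Cfsg Cfsg.Agent.H821.K547 Cfsg.Agent.H845.K547
open scoped commutatorElement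

universe u v

/-- two invariant linearly independent homomorphisms of the subgroup of index two -/
theorem rk_of_two {G : Type u} [Group G] [Finite G] {N : Subgroup G} (hN : N.Normal) (h2 : N.index = 2)
    (hc : N ≤ commutator G) (P : Sylow 2 G)
    (h : ∀ t : P, (t : G) ∉ N → ∃ f : (N.subgroupOf (P : Subgroup G)) →* Multiplicative (Fin 2 → ZMod 2),
      Function.Surjective f ∧ ∀ q q' : N.subgroupOf (P : Subgroup G), (q' : P) = t * q * t⁻¹ → f q' = f q) : Rk 3 P := by
  classical
  have : Fact (Nat.Prime 2) := ⟨Nat.prime_two⟩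
  have hPi : Odd (P : Subgroup G).index := by
    rw [← Nat.not_even_iff_odd]
    intro h1
    exact P.not_dvd_index h1.two_dvd
  -- `P ⊄ N`
  obtain ⟨t₀, ht₀P, ht₀⟩ : ∃ t ∈ (P : Subgroup G), t ∉ N := by
    by_contra hcon
    push Not at hcon
    have h1 : (P : Subgroup G) ≤ N := hcon
    have h3 := Subgroup.index_dvd_of_le h1
    rw [h2] at h3
    exact P.not_dvd_index h3
  let t : P := ⟨t₀, ht₀P⟩
  let Q : Subgroup P := N.subgroupOf P
  have hQ : Q.index = 2 := by
    have h1 : N.relIndex (P : Subgroup G) ∣ N.index := Subgroup.relIndex_dvd_index_of_normal N P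
    rw [h2, Nat.dvd_prime Nat.prime_two] at h1
    rcases h1 with h1 | h1
    · exact absurd (Subgroup.relIndex_eq_one.1 h1 ht₀P) ht₀
    · exact h1
  obtain ⟨f, hf, hft⟩ := h t ht₀
  let m : Fin 2 → W Q := fun i =>
    { toFun := fun x => Multiplicative.toAdd (f (Additive.toMul x)) i
      map_zero' := by
        show Multiplicative.toAdd (f 1) i = 0
        rw [map_one]; rfl
      map_add' := fun x y => by
        show Multiplicative.toAdd (f (Additive.toMul x * Additive.toMul y)) i = _
        rw [map_mul]; rfl }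
  have hm : LinearIndependent (ZMod 2) m := by
    rw [Fintype.linearIndependent_iff]
    intro c hc i
    obtain ⟨x, hx⟩ := hf (Multiplicative.ofAdd (Pi.single i 1))
    have h1 := congrArg (fun g : W Q => g (Additive.ofMul x)) hc
    simp only [AddMonoidHom.finsetSum_apply, AddMonoidHom.smul_apply, AddMonoidHom.zero_apply] at h1
    rw [Finset.sum_eq_single i] at h1
    · have h2 : c i • Multiplicative.toAdd (f x) i = 0 := h1
      rw [hx, toAdd_ofAdd, Pi.single_eq_same, smul_eq_mul, mul_one] at h2
      exact h2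
    · intro j _ hj
      show c j • Multiplicative.toAdd (f x) j = 0
      rw [hx, toAdd_ofAdd, Pi.single_eq_of_ne hj, smul_zero]
    · intro h2
      exact absurd (Finset.mem_univ i) h2
  have hm' : ∀ i, ∀ q : Q, ∀ q' : Q, (q' : P) = t * q * t⁻¹ → m i (Additive.ofMul q') = m i (Additive.ofMul q) := by
    intro i q q' hq
    show Multiplicative.toAdd (f q') i = Multiplicative.toAdd (f q) i
    rw [hft q q' hq]
  have hz : ∀ i, ∀ h : t * t ∈ Q, m i (Additive.ofMul ⟨t * t, h⟩) = 0 := fun i h =>
    apply_sq_eq_zero hN h2 hc hPi ht₀ hQ (m i) (hm' i) h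
  let E : Fin 2 → W P := fun i => extA hQ (t := t) ht₀ (m i) (hm' i) (AddMonoidHom.id _) 0 (fun h => by
    rw [hz i h]; rfl)
  let l' : Fin 3 → W P := ![E 0, E 1, chi Q hQ]
  refine rk_of_li (l := l') ?_
  rw [Fintype.linearIndependent_iff]
  intro c hc
  have hval : ∀ x : P, c 0 * E 0 (Additive.ofMul x) + c 1 * E 1 (Additive.ofMul x) + c 2 * chi Q hQ (Additive.ofMul x) = 0 := by
    intro x
    have h1 := congrArg (fun f : W P => f (Additive.ofMul x)) hc
    rw [Fin.sum_univ_three] at h1
    exact h1
  have h01 : ∀ i, c (Fin.castSucc i) = 0 := by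
    refine Fintype.linearIndependent_iff.1 hm (fun i => c (Fin.castSucc i)) ?_
    refine AddMonoidHom.ext fun q => ?_
    have h1 := hval ((Additive.toMul q : Q) : P)
    have e0 : ∀ i, E i (Additive.ofMul ((Additive.toMul q : Q) : P)) = m i q := by
      intro i
      exact dif_pos (Additive.toMul q : Q).2
    have e2 : chi Q hQ (Additive.ofMul ((Additive.toMul q : Q) : P)) = 0 := if_pos (Additive.toMul q : Q).2
    rw [e0, e0, e2, mul_zero, add_zero] at h1
    rw [Fin.sum_univ_two]
    exact h1
  have h0 : c 0 = 0 := h01 0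
  have h1 : c 1 = 0 := h01 1
  have h3 : c 2 = 0 := by
    have h4 := hval t
    have e2 : chi Q hQ (Additive.ofMul t) = 1 := if_neg ht₀
    rw [h0, h1, e2, zero_mul, zero_mul, mul_one, zero_add, zero_add] at h4
    exact h4
  intro i
  fin_cases i
  · exact h0
  · exact h1
  · exact h3

/-- **outer automorphisms of degree two** -/
theorem d3_autExt_two {S : Type u} [Group S] [Finite S] [IsSimpleGroup S] (hna : ¬ IsMulCommutative S)
    {τ : MulAut S} (hτ : ∃ s : S, ∀ x, (τ ^ 2) x = s * x * s⁻¹) (hni : ¬ IsInn τ)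
    (hf : ∀ (P : Sylow 2 S) (α : MulAut S), α ∈ AutExt τ → (P : Subgroup S).map α.toMonoidHom = P →
      ∃ f : P →* Multiplicative (Fin 2 → ZMod 2), Function.Surjective f ∧ ∀ x y : P, (y : S) = α x → f y = f x) :
    D3 (AutExt τ) := by
  have hp : Fact (Nat.Prime 2) := ⟨Nat.prime_two⟩
  have hfin : Finite (MulAut S) := Finite.of_injective (fun f : MulAut S => (f : S → S)) DFunLike.coe_injective
  have hzc : Subgroup.center S = ⊥ := by
    rcases Subgroup.Normal.eq_bot_or_eq_top (H := Subgroup.center S) inferInstance with h1 | h1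
    · exact h1
    · exfalso
      exact hna ⟨⟨fun a b => (Subgroup.mem_center_iff.1 (h1 ▸ Subgroup.mem_top b : b ∈ Subgroup.center S) a)⟩⟩
  have hcomm : commutator S = ⊤ := by
    rcases Subgroup.Normal.eq_bot_or_eq_top (H := commutator S) inferInstance with h1 | h1
    · exfalso
      refine hna ⟨⟨fun a b => ?_⟩⟩
      have h2 : ⁅a, b⁆ ∈ commutator S := Subgroup.commutator_mem_commutator (Subgroup.mem_top a) (Subgroup.mem_top b)
      rw [h1, Subgroup.mem_bot] at h2
      exact commutatorElement_eq_one_iff_mul_comm.1 h2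
    · exact h1
  have hinj : Function.Injective (MulAut.conj : S →* MulAut S) := by
    rw [injective_iff_map_eq_one]
    intro g hg
    have h1 : g ∈ Subgroup.center S := by
      rw [Subgroup.mem_center_iff]
      intro k
      have h2 := congrArg (fun f : MulAut S => f k) hg
      simp only [MulAut.conj_apply, MulAut.one_apply] at h2
      exact (mul_inv_eq_iff_eq_mul.1 h2).symm
    rwa [hzc, Subgroup.mem_bot] at h1
  have hconj : ∀ (β : MulAut S) (k : S), β * MulAut.conj k * β⁻¹ = MulAut.conj (β k) := by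
    intro β k
    ext x
    show β (k * β⁻¹ x * k⁻¹) = β k * x * (β k)⁻¹
    rw [map_mul, map_mul, map_inv, MulAut.apply_inv_self]
  have hnorm : ((MulAut.conj : S →* MulAut S).range).Normal := by
    refine ⟨?_⟩
    rintro _ ⟨k, rfl⟩ β
    exact ⟨β k, (hconj β k).symm⟩
  have hle : (MulAut.conj : S →* MulAut S).range ≤ AutExt τ := le_sup_left
  have hτm : τ ∈ AutExt τ := (le_sup_right : Subgroup.zpowers τ ≤ AutExt τ) (Subgroup.mem_zpowers τ)
  have hτ2 : τ * τ ∈ (MulAut.conj : S →* MulAut S).range := by
    obtain ⟨s, hs⟩ := hτ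
    refine ⟨s, ?_⟩
    ext x
    rw [← pow_two]
    exact (hs x).symm
  have hτ1 : τ ∉ (MulAut.conj : S →* MulAut S).range := by
    rintro ⟨s, hs⟩
    exact hni ⟨s, fun x => by rw [← hs]; rfl⟩
  let N : Subgroup (AutExt τ) := (MulAut.conj : S →* MulAut S).range.subgroupOf (AutExt τ)
  have hN : N.Normal := inferInstance
  -- every element of the extension
  have hall : ∀ x ∈ AutExt τ, x ∈ (MulAut.conj : S →* MulAut S).range ∨ x * τ ∈ (MulAut.conj : S →* MulAut S).range := by
    intro x hx
    obtain ⟨n, hn, y, hy, rfl⟩ := Subgroup.mem_sup_of_normal_left.1 hx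
    obtain ⟨k, rfl⟩ := Subgroup.mem_zpowers_iff.1 hy
    rcases Int.even_or_odd' k with ⟨j, rfl | rfl⟩
    · left
      refine Subgroup.mul_mem _ hn ?_
      rw [zpow_mul]
      exact Subgroup.zpow_mem _ (by rw [zpow_two]; exact hτ2) j
    · right
      rw [mul_assoc]
      refine Subgroup.mul_mem _ hn ?_
      rw [← zpow_add_one, show 2 * j + 1 + 1 = 2 * (j + 1) by ring, zpow_mul]
      exact Subgroup.zpow_mem _ (by rw [zpow_two]; exact hτ2) _
  have hidx : N.index = 2 := by
    rw [Subgroup.index_eq_two_iff]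
    refine ⟨⟨τ, hτm⟩, ?_⟩
    rintro ⟨x, hx⟩
    have hnot : ¬ (x * τ ∈ (MulAut.conj : S →* MulAut S).range ∧ x ∈ (MulAut.conj : S →* MulAut S).range) := by
      rintro ⟨h2, h3⟩
      apply hτ1
      have := Subgroup.mul_mem _ (Subgroup.inv_mem _ h3) h2
      rwa [inv_mul_cancel_left] at this
    show Xor (x * τ ∈ (MulAut.conj : S →* MulAut S).range) (x ∈ (MulAut.conj : S →* MulAut S).range)
    rcases hall x hx with h3 | h3
    · exact Or.inr ⟨h3, fun h' => hnot ⟨h', h3⟩⟩
    · exact Or.inl ⟨h3, fun h' => hnot ⟨h3, h'⟩⟩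
  -- the embedding
  let j : S →* AutExt τ := (MulAut.conj : S →* MulAut S).codRestrict _ fun s => hle ⟨s, rfl⟩
  have hj : Function.Injective j := fun a b hab => hinj (congrArg Subtype.val hab)
  have hjr : j.range = N := by
    ext ⟨x, hx⟩
    rw [Subgroup.mem_subgroupOf]
    constructor
    · rintro ⟨s, hs⟩
      exact ⟨s, congrArg Subtype.val hs⟩
    · rintro ⟨s, hs⟩
      exact ⟨s, Subtype.ext hs⟩
  have hNc : N ≤ commutator (AutExt τ) := by
    rw [← hjr, MonoidHom.range_eq_map, ← hcomm, commutator_def, Subgroup.map_commutator, commutator_def]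
    exact Subgroup.commutator_mono le_top le_top
  have hfA : Finite (AutExt τ) := inferInstance
  have hjc : ∀ (t : AutExt τ) (s : S), t * j s * t⁻¹ = j ((t : MulAut S) s) := fun t s =>
    Subtype.ext (hconj (t : MulAut S) s)
  intro P
  refine rk_of_two hN hidx hNc P fun t ht => ?_
  -- the Sylow subgroup of `S`
  let R : Subgroup S := (P : Subgroup (AutExt τ)).comap j
  have hR : IsPGroup 2 R := P.2.comap_of_injective j hj
  -- the isomorphism with the subgroup of `P`
  let i : R →* N.subgroupOf (P : Subgroup (AutExt τ)) :=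
    { toFun := fun s => ⟨⟨j (s : S), s.2⟩, by
        rw [Subgroup.mem_subgroupOf, ← hjr]
        exact ⟨s, rfl⟩⟩
      map_one' := by
        apply Subtype.ext
        apply Subtype.ext
        exact map_one j
      map_mul' := fun a b => by
        apply Subtype.ext
        apply Subtype.ext
        exact map_mul j (a : S) (b : S) }
  have hi : Function.Bijective i := by
    constructor
    · intro a b hab
      exact Subtype.ext (hj (congrArg (fun x => ((x : N.subgroupOf (P : Subgroup (AutExt τ))) : P).1) hab))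
    · rintro ⟨⟨x, hx⟩, hxN⟩
      have hxN' : x ∈ N := hxN
      rw [← hjr] at hxN'
      obtain ⟨s, hs⟩ := hxN'
      refine ⟨⟨s, ?_⟩, ?_⟩
      · show j s ∈ (P : Subgroup (AutExt τ))
        rw [hs]
        exact hx
      · apply Subtype.ext
        apply Subtype.ext
        exact hs
  have hRi : ¬ 2 ∣ R.index := by
    have hQ : (N.subgroupOf (P : Subgroup (AutExt τ))).index = 2 := by
      have h1 : N.relIndex (P : Subgroup (AutExt τ)) ∣ N.index := Subgroup.relIndex_dvd_index_of_normal N P
      rw [hidx, Nat.dvd_prime Nat.prime_two] at h1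
      rcases h1 with h1 | h1
      · exact absurd (Subgroup.relIndex_eq_one.1 h1 t.2) ht
      · exact h1
    have h5 := Subgroup.card_mul_index (P : Subgroup (AutExt τ))
    have h6 := Subgroup.card_mul_index N
    have h7 := Subgroup.card_mul_index (N.subgroupOf (P : Subgroup (AutExt τ)))
    have h8 := Subgroup.card_mul_index R
    have h9 : Nat.card R = Nat.card (N.subgroupOf (P : Subgroup (AutExt τ))) := Nat.card_congr (Equiv.ofBijective i hi)
    have h10 : Nat.card S = Nat.card N := by
      rw [← hjr]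
      exact Nat.card_congr (MonoidHom.ofInjective hj).toEquiv
    rw [hQ, ← h9] at h7
    rw [hidx, ← h10, ← h8] at h6
    have h11 : Nat.card R * R.index = Nat.card R * (P : Subgroup (AutExt τ)).index := by
      have e1 : Nat.card R * R.index * 2 = Nat.card R * (P : Subgroup (AutExt τ)).index * 2 := by
        rw [h6, ← h5, ← h7]
        ring
      exact Nat.eq_of_mul_eq_mul_right (by norm_num) e1
    rw [Nat.eq_of_mul_eq_mul_left Nat.card_pos h11]
    exact P.not_dvd_index
  let α : MulAut S := ((t : AutExt τ) : MulAut S)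
  have hα1 : ∀ s ∈ R, α s ∈ R := by
    intro s hs
    show j (α s) ∈ (P : Subgroup (AutExt τ))
    rw [← hjc]
    exact Subgroup.mul_mem _ (Subgroup.mul_mem _ t.2 hs) (Subgroup.inv_mem _ t.2)
  have hα : R.map α.toMonoidHom = R := by
    have h1 : R.map α.toMonoidHom ≤ R := by
      rintro _ ⟨s, hs, rfl⟩
      exact hα1 s hs
    refine Subgroup.eq_of_le_of_card_ge h1 ?_
    rw [← Nat.card_congr (R.equivMapOfInjective α.toMonoidHom α.injective).toEquiv]
  obtain ⟨f, hf1, hf2⟩ := hf (hR.toSylow hRi) α (t : AutExt τ).2 hα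
  let e := MulEquiv.ofBijective i hi
  refine ⟨(show R →* Multiplicative (Fin 2 → ZMod 2) from f).comp e.symm.toMonoidHom, ?_, ?_⟩
  · exact hf1.comp e.symm.surjective
  · intro q q' hq
    refine hf2 (e.symm q) (e.symm q') ?_
    apply hj
    have e1 : ∀ r : N.subgroupOf (P : Subgroup (AutExt τ)), j ((e.symm r : R) : S) = ((r : P) : AutExt τ) := by
      intro r
      exact congrArg (fun x => (((x : N.subgroupOf (P : Subgroup (AutExt τ))) : P) : AutExt τ)) (e.apply_symm_apply r)
    show j ((e.symm q' : R) : S) = j (α ((e.symm q : R) : S))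
    rw [e1, ← hjc, e1, hq]
    rfl

end Cfsg.Agent.H189.K547.Ext
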