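import Cfsg.Agent.H189.K547.Ext
import Cfsg.Agent.H805.K4.TitsSyl
import Cfsg.Agent.H600.EB.TitsMain
import Cfsg.Agent.TitsK.Inst
import Cfsg.Agent.TitsK.SheetT
import Cfsg.Agent.TitsK.Model
import Cfsg.Agent.H707.RowTits

/-!
# S4547: the row of the Tits group (helper189)

* `TitsX`: the element of order 16 (`XCond`);
* `TitsInv`: automorphisms act trivially on the Frattini quotient of a Sylow 2-subgroup;
* `TitsChar`: the characters of degree 1, 351, 675;
* `Tits.row`.
-/

/-!
# The Tits group: an element of order 16 (helper189, S4547)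

`x = k1 g2` in the Sylow 2-subgroup `Q` of `T` has order 16; its normaliser has order less than 64: it fixes the points
0, 1968 and the set `{297, 2606}` (the fixed points of `x`, `x ^ 2`), so it lies in `Q`, and `<x>` has at least 33
conjugates in `Q` (their orbits of the point 13 are different).
-/

set_option autoImplicit false
set_option maxRecDepth 100000
set_option exponentiation.threshold 5000
set_option linter.unusedSectionVars false

namespace Cfsg.Agent.H189.K547.TitsX

open Cfsg Cfsg.Agent.H805.K4.Bit Cfsg.Agent.H805.K4.TitsSyl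
open Cfsg.Agent.SporadicB.RuData Cfsg.Agent.SporadicB.RuOrder Cfsg.Agent.SporadicB.RuTitsData
open Cfsg.Agent.SporadicB.RuTits
open Cfsg.Agent.Lib.BitNet Cfsg.Agent.Lib.BitNetSimple
open MulAction

/-- the network of `x` -/
def X0 : List (ℕ × ℕ) := k1 ++ g2

theorem qX : Mem Q X0 := qk.append qg

/-- the element of order 16 -/
noncomputable def xp : Equiv.Perm (Fin 4060) := perm qX.1

theorem xp_mem : xp ∈ Q := qX.2

theorem xp_pow (k : ℕ) (i : Fin 4060) : (((xp ^ k) i : Fin 4060) : ℕ) = (app X0)^[k] i := perm_pow_apply _ _ _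

/-! ### fixed points -/

/-- the mask of the numbers below 4096 with bit `b` -/
def plane (b : ℕ) : ℕ := Nat.mul (Nat.div (Nat.sub (Nat.pow 2 4096) 1) (Nat.add (Nat.pow 2 (Nat.pow 2 b)) 1))
  (Nat.pow 2 (Nat.pow 2 b))

/-- points which are moved -/
noncomputable def movedF (l : List (ℕ × ℕ)) (k : ℕ) : ℕ → ℕ :=
  Nat.rec (fun acc => acc) (fun b ih acc => force (plane b) (fun p => force (appMF l p) (fun q =>
    force (Nat.lor acc (Nat.xor p q)) ih))) k

theorem testBit_movedF {l : List (ℕ × ℕ)} (hv : OkNet 4060 l) {i : ℕ} (hi : app l i = i) : ∀ (k acc : ℕ),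
    acc.testBit i = false → (movedF l k acc).testBit i = false
  | 0, _, h => h
  | b + 1, acc, h => by
    have e : movedF l (b + 1) acc = movedF l b (Nat.lor acc (Nat.xor (plane b) (appMF l (plane b)))) := by
      show force (plane b) (fun p => force (appMF l p) (fun q => force (Nat.lor acc (Nat.xor p q)) (movedF l b))) = _
      rw [force_eq, force_eq, force_eq]
    rw [e]
    apply testBit_movedF hv hi
    have h1 : Nat.lor acc (Nat.xor (plane b) (appMF l (plane b))) = acc ||| (plane b ^^^ appMF l (plane b)) := rfl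
    rw [h1, Nat.testBit_or, h, Nat.testBit_xor, appMF_eq]
    have h2 := testBit_appM hv.valid (plane b) i
    rw [hi] at h2
    rw [h2]
    simp

theorem moved1 : Nat.beq (Nat.lor (movedF X0 12 0) (Nat.lor (Nat.pow 2 0) (Nat.pow 2 1968)))
    (Nat.sub (Nat.pow 2 4060) 1) = true := by decide +kernel

theorem moved2 : Nat.beq (Nat.lor (movedF (X0 ++ X0) 12 0) (Nat.lor (Nat.lor (Nat.pow 2 0) (Nat.pow 2 1968))
    (Nat.lor (Nat.pow 2 297) (Nat.pow 2 2606)))) (Nat.sub (Nat.pow 2 4060) 1) = true := by decide +kernel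


theorem fix1 {i : Fin 4060} (h : xp i = i) : (i : ℕ) = 0 ∨ (i : ℕ) = 1968 := by
  have h0 := congrArg (fun m => Nat.testBit m (i : ℕ)) (Nat.eq_of_beq_eq_true moved1)
  have h1 : (movedF X0 12 0).testBit i = false := by
    refine testBit_movedF qX.1 ?_ 12 0 (Nat.zero_testBit _)
    exact congrArg Fin.val h
  have e1 : ∀ a b : ℕ, Nat.lor a b = a ||| b := fun _ _ => rfl
  have e2 : ∀ a b : ℕ, Nat.pow a b = a ^ b := fun _ _ => rfl
  have e3 : ∀ a b : ℕ, Nat.sub a b = a - b := fun _ _ => rfl
  simp only [e1, e2, e3, Nat.testBit_or, h1, Bool.false_or, Nat.testBit_two_pow_sub_one, Nat.testBit_two_pow,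
    i.2, decide_true, Bool.or_eq_true, decide_eq_true_eq] at h0
  omega

theorem fix2 {i : Fin 4060} (h : xp (xp i) = i) : (i : ℕ) = 0 ∨ (i : ℕ) = 1968 ∨ (i : ℕ) = 297 ∨ (i : ℕ) = 2606 := by
  have h0 := congrArg (fun m => Nat.testBit m (i : ℕ)) (Nat.eq_of_beq_eq_true moved2)
  have h1 : (movedF (X0 ++ X0) 12 0).testBit i = false := by
    refine testBit_movedF (okNet_append qX.1 qX.1) ?_ 12 0 (Nat.zero_testBit _)
    rw [app_append]
    exact congrArg Fin.val h
  have e1 : ∀ a b : ℕ, Nat.lor a b = a ||| b := fun _ _ => rfl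
  have e2 : ∀ a b : ℕ, Nat.pow a b = a ^ b := fun _ _ => rfl
  have e3 : ∀ a b : ℕ, Nat.sub a b = a - b := fun _ _ => rfl
  simp only [e1, e2, e3, Nat.testBit_or, h1, Bool.false_or, Nat.testBit_two_pow_sub_one, Nat.testBit_two_pow,
    i.2, decide_true, Bool.or_eq_true, decide_eq_true_eq] at h0
  omega

/-! ### the conjugates in `Q` -/

/-- the network of a word -/
def netW : List Bool → List (ℕ × ℕ)
  | [] => []
  | c :: w => (cond c g2 k1) ++ netW w

theorem qW : ∀ w : List Bool, Mem Q (netW w)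
  | [] => by
    refine ⟨⟨fun p hp => absurd hp List.not_mem_nil, fun i => Iff.rfl⟩, ?_⟩
    exact Q.one_mem
  | c :: w => by
    cases c
    · exact qk.append (qW w)
    · exact qg.append (qW w)

/-- the element of a word -/
noncomputable def wp (w : List Bool) : Equiv.Perm (Fin 4060) := perm (qW w).1

theorem wp_mem (w : List Bool) : wp w ∈ Q := (qW w).2

/-- the orbit of 13 under a conjugate of `<x>` -/
def Phi (g : Equiv.Perm (Fin 4060)) : Set (Fin 4060) :=
  {ω | ∃ h ∈ Subgroup.zpowers xp, ω = g (h (g⁻¹ (⟨13, by norm_num⟩ : Fin 4060)))}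

theorem Phi_mul {g n : Equiv.Perm (Fin 4060)} (hn : ∀ h, h ∈ Subgroup.zpowers xp ↔ n * h * n⁻¹ ∈ Subgroup.zpowers xp) :
    Phi (g * n) = Phi g := by
  ext ω
  constructor
  · rintro ⟨h, hh, rfl⟩
    refine ⟨n * h * n⁻¹, (hn h).1 hh, ?_⟩
    rw [mul_inv_rev]
    simp only [Equiv.Perm.mul_apply]
  · rintro ⟨h, hh, rfl⟩
    refine ⟨n⁻¹ * h * n, (hn _).2 (by simpa [mul_assoc] using hh), ?_⟩
    have e : g (h (g⁻¹ (⟨13, by norm_num⟩ : Fin 4060))) =
        (g * n) ((n⁻¹ * h * n) ((g * n)⁻¹ (⟨13, by norm_num⟩ : Fin 4060))) := by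
      simp only [← Equiv.Perm.mul_apply]
      congr 1
      group
    exact e

/-- the mask of a list of points -/
def maskL : List ℕ → ℕ
  | [] => 0
  | a :: l => Nat.lor (Nat.pow 2 a) (maskL l)

theorem testBit_maskL (i : ℕ) : ∀ l : List ℕ, (maskL l).testBit i = true ↔ i ∈ l
  | [] => by
    show (0 : ℕ).testBit i = true ↔ _
    simp
  | a :: l => by
    have e : maskL (a :: l) = 2 ^ a ||| maskL l := rfl
    rw [e, Nat.testBit_or, Bool.or_eq_true, testBit_maskL i l, List.mem_cons, Nat.testBit_two_pow, decide_eq_true_eq]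
    exact or_congr_left eq_comm

/-- `Phi` of the word `p.1` consists of the points `p.2.2` -/
noncomputable def chk (p : List Bool × ℕ × List ℕ) : Bool :=
  force (iterF [X0] 7 (Nat.pow 2 p.2.1)) (fun M => Nat.beq (appF (netW p.1) p.2.1) 13 &&
    (Nat.beq (appMF X0 M) M && (tb M p.2.1 && (Nat.blt p.2.1 4060 && Nat.beq (appMF (netW p.1) M) (maskL p.2.2)))))

theorem mem_Phi {p : List Bool × ℕ × List ℕ} (h : chk p = true) (ω : Fin 4060) :
    ω ∈ Phi (wp p.1) ↔ (ω : ℕ) ∈ p.2.2 := by
  obtain ⟨w, r, l⟩ := p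
  rw [chk, force_eq] at h
  simp only [Bool.and_eq_true] at h
  obtain ⟨h1, h2, h3, h4, h5⟩ := h
  rw [← testBit_maskL, ← Nat.eq_of_beq_eq_true h5, appMF_eq]
  have hr : r < 4060 := by
    rw [Nat.blt_eq] at h4
    exact h4
  have h6 : (wp w)⁻¹ (⟨13, by norm_num⟩ : Fin 4060) = ⟨r, hr⟩ := by
    rw [Equiv.Perm.inv_eq_iff_eq]
    apply Fin.ext
    rw [appF_eq] at h1
    exact (Nat.eq_of_beq_eq_true h1).symm
  generalize hM : iterF [X0] 7 (Nat.pow 2 r) = M at h2 h3 ⊢
  have hinv : ∀ g ∈ Subgroup.zpowers xp, ∀ x : Fin 4060, M.testBit (g x) = M.testBit x := by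
    intro g hg x
    rw [Subgroup.zpowers_eq_closure] at hg
    refine inv_closure ?_ hg x
    rintro _ rfl
    exact inv_of _ h2
  have hb : ∀ y : Fin 4060, (appM (netW w) M).testBit (wp w y) = M.testBit y := by
    intro y
    exact testBit_appM (qW w).1.valid M y
  constructor
  · rintro ⟨g, hg, rfl⟩
    rw [hb, h6, hinv g hg]
    rw [tb_eq] at h3
    exact h3
  · intro hω
    have e : wp w ((wp w)⁻¹ ω) = ω := (wp w).apply_symm_apply _
    rw [← e, hb] at hω
    have hm : ∀ g ∈ [X0], Mem (Subgroup.zpowers xp) g := by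
      intro g hg
      rw [List.mem_singleton] at hg
      subst hg
      exact ⟨qX.1, Subgroup.mem_zpowers _⟩
    obtain ⟨g, hg, hgx⟩ := exists_of_iterF (b := ⟨r, hr⟩) hm (c := M) (k := 7) (by
      show Nat.beq (iterF [X0] 7 (Nat.pow 2 r)) M = true
      rw [hM, Nat.beq_refl]) hω
    refine ⟨g, hg, ?_⟩
    rw [h6, hgx, e]

/-- 33 conjugates -/
def data : List (List Bool × ℕ × List ℕ) :=
  [([], 13, [13, 353, 370, 2066, 2521, 3364, 3393, 3985]),
  ([false], 372, [13, 279, 353, 370, 494, 1492, 1526, 3735]),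
  ([false, false], 3191, [13, 57, 172, 2691, 2979, 3005, 3364, 3664]),
  ([false, false, false], 181, [13, 1298, 1882, 2066, 2444, 2521, 2979, 3191]),
  ([false, false, true], 931, [13, 494, 1882, 2346, 2419, 2691, 2979, 3124]),
  ([false, false, false, true], 3877, [13, 402, 1157, 1526, 2691, 3054, 3664, 3735]),
  ([false, false, true, false], 2444, [13, 370, 372, 982, 1882, 2419, 3877, 3985]),
  ([false, false, false, true, false], 1877, [13, 279, 372, 1298, 2419, 2691, 2979, 3393]),
  ([false, false, true, false, false], 2267, [13, 57, 931, 1190, 1298, 1376, 3475, 3664]),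
  ([false, false, true, false, true], 1710, [13, 57, 279, 353, 3345, 3475, 3664, 4012]),
  ([false, false, false, true, false, false], 3735, [13, 1190, 1376, 2065, 2419, 2676, 3054, 3474]),
  ([false, false, false, true, false, true], 2569, [13, 57, 1492, 2691, 2979, 3054, 3475, 3985]),
  ([false, false, true, false, false, false], 2676, [13, 172, 508, 982, 1526, 3305, 3664, 3735]),
  ([false, false, true, false, false, true], 1468, [13, 181, 372, 1189, 1882, 2419, 3054, 3474]),
  ([false, false, true, false, true, false], 13, [13, 508, 1492, 1526, 2366, 3305, 3516, 3985]),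
  ([false, false, false, true, false, false, false], 1298, [13, 57, 181, 494, 1022, 1189, 3191, 3735]),
  ([false, false, false, true, false, false, true], 3475, [13, 57, 181, 931, 1189, 1298, 2366, 3057]),
  ([false, false, false, true, false, true, false], 372, [13, 508, 2066, 2346, 2676, 3124, 3305, 3345]),
  ([false, false, true, false, false, false, true], 3393, [13, 1710, 1882, 2066, 2346, 2521, 3345, 4048]),
  ([false, false, true, false, false, true, false], 3057, [13, 57, 494, 1190, 1376, 1492, 3005, 3191]),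
  ([false, false, true, false, true, false, false], 3664, [13, 1710, 2167, 2419, 2521, 2676, 3191, 3305]),
  ([false, false, true, false, true, false, true], 3720, [13, 279, 1710, 2065, 2066, 2167, 3393, 4048]),
  ([false, false, false, true, false, false, false, true], 494, [13, 402, 1190, 1376, 2419, 2521, 3176, 3364]),
  ([false, false, false, true, false, false, true, false], 3364, [13, 172, 982, 1526, 1710, 3005, 3057, 4048]),
  ([false, false, false, true, false, true, false, false], 982, [13, 172, 372, 2066, 2676, 3054, 3877, 4012]),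
  ([false, false, true, false, false, false, true, false], 172, [13, 172, 353, 370, 1882, 2065, 2066, 3054]),
  ([false, false, true, false, false, true, false, false], 3474, [13, 402, 1526, 2444, 2979, 3005, 3054, 3057]),
  ([false, false, true, false, false, true, false, true], 1492, [13, 181, 402, 1189, 2419, 3124, 3364, 3393]),
  ([false, false, true, false, true, false, false, false], 2167, [13, 172, 353, 2419, 2521, 3176, 3516, 4012]),
  ([false, false, true, false, true, false, false, true], 1022, [13, 57, 402, 1710, 3057, 3305, 3516, 3735]),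
  ([false, false, true, false, true, false, true, false], 1882, [13, 181, 372, 402, 982, 1190, 2066, 2676]),
  ([false, false, false, true, false, false, false, true, false], 2444, [13, 57, 353, 1492, 2167, 2346, 3005, 4012]),
  ([false, false, false, true, false, false, true, false, false], 2691, [13, 494, 1157, 2346, 2419, 2444, 2521, 2676])]

theorem chk_data : ∀ p ∈ data, chk p = true := by
  intro p hp
  simp only [data, List.mem_cons, List.not_mem_nil, or_false] at hp
  rcases hp with rfl | rfl | rfl | rfl | rfl | rfl | rfl | rfl | rfl | rfl | rfl | rfl | rfl | rfl | rfl | rfl | rfl | rfl | rfl | rfl | rfl | rfl | rfl | rfl | rfl | rfl | rfl | rfl | rfl | rfl | rfl | rfl | rfl <;>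
    decide +kernel

/-- different lists -/
def sep (p q : List Bool × ℕ × List ℕ) : Bool := p.2.2.any (fun a => !(q.2.2.contains a))

theorem sep_data : data.Pairwise (fun p q => sep p q = true) := by decide +kernel

theorem sep_spec {p q : List Bool × ℕ × List ℕ} (hp : ∀ a ∈ p.2.2, a < 4060) (h1 : chk p = true) (h2 : chk q = true)
    (h : sep p q = true) : Phi (wp p.1) ≠ Phi (wp q.1) := by
  intro he
  rw [sep, List.any_eq_true] at h
  obtain ⟨a, ha, hb⟩ := h
  have h3 : (⟨a, hp a ha⟩ : Fin 4060) ∈ Phi (wp p.1) := (mem_Phi h1 _).2 ha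
  rw [he, mem_Phi h2] at h3
  rw [Bool.not_eq_true', ← Bool.not_eq_true, List.contains_iff_mem] at hb
  exact hb h3

theorem lt_data : ∀ p ∈ data, ∀ a ∈ p.2.2, a < 4060 := by decide +kernel

theorem length_data : data.length = 33 := rfl


/-! ### the stabiliser of `{297, 2606}` in `T1` is `Q` -/

/-- the stabiliser of `{297, 2606}` -/
def R : Subgroup (Equiv.Perm (Fin 4060)) where
  carrier := {g | g ∈ T1 ∧ ∀ x : Fin 4060, mz.testBit (g x) = mz.testBit x}
  one_mem' := ⟨T1.one_mem, fun _ => rfl⟩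
  mul_mem' := by
    rintro a b ⟨ha, ha'⟩ ⟨hb, hb'⟩
    exact ⟨T1.mul_mem ha hb, fun x => by rw [Equiv.Perm.mul_apply, ha', hb']⟩
  inv_mem' := by
    rintro a ⟨ha, ha'⟩
    refine ⟨T1.inv_mem ha, fun x => ?_⟩
    have h1 : a (a⁻¹ x) = x := a.apply_symm_apply x
    rw [← ha' (a⁻¹ x), h1]

theorem R_eq : R = Q := by
  classical
  symm
  refine Subgroup.eq_of_le_of_card_ge (fun g hg => ⟨Q_le hg, mz_inv g hg⟩) ?_
  have h1 : orbit R z ⊆ ((pts 4060 mz : Finset (Fin 4060)) : Set (Fin 4060)) := by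
    rintro _ ⟨g, rfl⟩
    rw [Finset.mem_coe, mem_pts]
    have h2 := g.2.2 z
    have h3 := mz_z
    rw [tb_eq] at h3
    have h4 : mz.testBit (z : ℕ) = true := h3
    rw [h4] at h2
    exact h2
  have h2 : Nat.card (orbit R z) ≤ 2 := by
    rw [Nat.card_coe_set_eq]
    refine (Set.ncard_le_ncard h1 (Finset.finite_toSet _)).trans ?_
    rw [Set.ncard_coe_finset]
    refine (card_pts_le (K := 12) (by norm_num) _).trans ?_
    rw [Nat.eq_of_beq_eq_true popc_mz]
  have h4 := lowT1z
  rw [card_T1] at h4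
  have h5 := card_eq_orbit_mul R z
  have h6 : Nat.card (R ⊓ stabilizer (Equiv.Perm (Fin 4060)) z : Subgroup (Equiv.Perm (Fin 4060))) ≤
      Nat.card (T1 ⊓ stabilizer (Equiv.Perm (Fin 4060)) z : Subgroup (Equiv.Perm (Fin 4060))) :=
    Subgroup.card_le_of_le (inf_le_inf_right _ fun g hg => hg.1)
  rw [card_Q, h5]
  have h7 := Nat.mul_le_mul h2 (h6.trans (show _ ≤ 1024 by omega))
  omega

/-! ### the order of `x` -/

theorem eq_one_of {g : Equiv.Perm (Fin 4060)} (hg : g ∈ Q) (h4 : g p2 = p2) (h1 : g z1 = z1) : g = 1 := by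
  have e1 := lowQ
  have e2 := lowQ2
  rw [card_Q] at e1
  have e3 : Nat.card (Q2 ⊓ stabilizer (Equiv.Perm (Fin 4060)) z1 : Subgroup (Equiv.Perm (Fin 4060))) ≤ 1 := by omega
  have e4 := Subgroup.eq_bot_of_card_le _ e3
  have e5 : g ∈ (Q2 ⊓ stabilizer (Equiv.Perm (Fin 4060)) z1 : Subgroup (Equiv.Perm (Fin 4060))) := ⟨⟨hg, h4⟩, h1⟩
  rw [e4] at e5
  exact Subgroup.mem_bot.1 e5

theorem x16a : Nat.beq (powF X0 16 4) 4 = true := by decide +kernel
theorem x16b : Nat.beq (powF X0 16 1) 1 = true := by decide +kernel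
theorem x8 : Nat.beq (powF X0 8 4) 4 = false := by decide +kernel

theorem orderOf_x : orderOf xp = 2 ^ (3 + 1) := by
  have : Fact (Nat.Prime 2) := ⟨Nat.prime_two⟩
  refine orderOf_eq_prime_pow ?_ ?_
  · intro h
    have h1 := xp_pow 8 p2
    have h2 : xp ^ 8 = 1 := h
    rw [h2, ← powF_eq] at h1
    have h3 : powF X0 8 4 = 4 := h1.symm
    have h4 := x8
    rw [h3] at h4
    exact Bool.noConfusion h4
  · refine eq_one_of (Q.pow_mem xp_mem _) ?_ ?_
    · exact perm_pow_fix qX.1 x16a
    · exact perm_pow_fix qX.1 x16b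

/-! ### the normaliser -/

theorem z_fix : Nat.beq (appF (X0 ++ X0) 297) 297 = true := by decide +kernel
theorem z_fix' : Nat.beq (appF (X0 ++ X0) 2606) 2606 = true := by decide +kernel

theorem zpow_fix {α : Type*} {f : Equiv.Perm α} {y : α} (h : f y = y) (k : ℤ) : (f ^ k) y = y := by
  have h1 : f ∈ stabilizer (Equiv.Perm α) y := h
  exact Subgroup.zpow_mem _ h1 k

theorem mz_iff (y : Fin 4060) : mz.testBit y = true ↔ (y : ℕ) = 297 ∨ (y : ℕ) = 2606 := by
  have e : mz = 2 ^ 297 + 2 ^ 2606 := rfl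
  have e2 : mz = 2 ^ 297 ||| 2 ^ 2606 := by decide +kernel
  rw [e2, Nat.testBit_or, Nat.testBit_two_pow, Nat.testBit_two_pow, Bool.or_eq_true, decide_eq_true_eq,
    decide_eq_true_eq]
  constructor
  · rintro (h | h)
    · exact Or.inl h.symm
    · exact Or.inr h.symm
  · rintro (h | h)
    · exact Or.inl h.symm
    · exact Or.inr h.symm

theorem norm_aux {g : Equiv.Perm (Fin 4060)} (hT : g ∈ T) {k : ℤ} (hk : xp * g = g * xp ^ k) :
    g p1 = p1 ∧ ∀ y : Fin 4060, mz.testBit y = true → mz.testBit (g y) = true := by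
  have h0 : g b1 = b1 := (T_le hT).2
  have h1 : g p1 = p1 := by
    have e1 : xp p1 = p1 := (Q_le xp_mem).2
    have e2 : xp (g p1) = g p1 := by
      rw [← Equiv.Perm.mul_apply, hk, Equiv.Perm.mul_apply, zpow_fix e1]
    rcases fix1 e2 with h | h
    · exfalso
      have e3 : g p1 = g b1 := by
        rw [h0]
        exact Fin.ext h
      have e4 := congrArg Fin.val (g.injective e3)
      exact absurd e4 (by decide)
    · exact Fin.ext h
  refine ⟨h1, fun y hy => ?_⟩
  have e1 : (xp ^ 2) y = y := by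
    rw [pow_two, Equiv.Perm.mul_apply]
    apply Fin.ext
    show app X0 (app X0 y) = y
    rw [← app_append]
    rcases (mz_iff y).1 hy with h | h
    · rw [h, ← appF_eq]
      exact Nat.eq_of_beq_eq_true z_fix
    · rw [h, ← appF_eq]
      exact Nat.eq_of_beq_eq_true z_fix'
  have e2 : xp (xp (g y)) = g y := by
    rw [← Equiv.Perm.mul_apply xp g, hk, ← Equiv.Perm.mul_apply, ← mul_assoc, hk, mul_assoc, ← zpow_add, ← two_mul,
      zpow_mul, Equiv.Perm.mul_apply]
    congr 1
    exact zpow_fix (by exact_mod_cast e1) k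
  rw [mz_iff]
  have hy' := (mz_iff y).1 hy
  rcases fix2 e2 with h | h | h | h
  · exfalso
    have e3 : g y = g b1 := by
      rw [h0]
      exact Fin.ext h
    have e4 := congrArg Fin.val (g.injective e3)
    have e5 : (b1 : ℕ) = 0 := rfl
    omega
  · exfalso
    have e3 : g y = g p1 := by
      rw [h1]
      exact Fin.ext h
    have e4 := congrArg Fin.val (g.injective e3)
    have e5 : (p1 : ℕ) = 1968 := rfl
    omega
  · exact Or.inl h
  · exact Or.inr h

theorem norm_mem_Q {g : Equiv.Perm (Fin 4060)} (hT : g ∈ T)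
    (hn : ∀ h, h ∈ Subgroup.zpowers xp ↔ g * h * g⁻¹ ∈ Subgroup.zpowers xp) : g ∈ Q := by
  obtain ⟨k, hk⟩ := Subgroup.mem_zpowers_iff.1 ((hn (g⁻¹ * xp * g)).2 (by
    simp [mul_assoc]))
  obtain ⟨k', hk'⟩ := Subgroup.mem_zpowers_iff.1 ((hn xp).1 (Subgroup.mem_zpowers xp))
  obtain ⟨h1, h2⟩ := norm_aux hT (k := k) (by rw [hk]; group)
  obtain ⟨-, h3⟩ := norm_aux (T.inv_mem hT) (k := k') (by rw [hk']; group)
  rw [← R_eq]
  refine ⟨⟨hT, h1⟩, fun y => ?_⟩
  rw [Bool.eq_iff_iff]
  refine ⟨fun h => ?_, h2 y⟩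
  have h4 := h3 _ h
  have e : g⁻¹ (g y) = y := g.symm_apply_apply y
  rwa [e] at h4

/-- the normaliser of `<x>` in `Q` has index at least 33 -/
theorem card_norm {N : Subgroup (Equiv.Perm (Fin 4060))} (hNQ : N ≤ Q)
    (hN : ∀ g ∈ N, ∀ h, h ∈ Subgroup.zpowers xp ↔ g * h * g⁻¹ ∈ Subgroup.zpowers xp) : Nat.card N < 64 := by
  classical
  have h1 : 33 ≤ N.relIndex Q := by
    have hf : Function.Injective (fun i : Fin data.length =>
        (QuotientGroup.mk (⟨wp (data.get i).1, wp_mem _⟩ : Q) : Q ⧸ N.subgroupOf Q)) := by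
      have key : ∀ i j : Fin data.length, i < j →
          (QuotientGroup.mk (⟨wp (data.get i).1, wp_mem _⟩ : Q) : Q ⧸ N.subgroupOf Q) ≠
          QuotientGroup.mk (⟨wp (data.get j).1, wp_mem _⟩ : Q) := by
        intro i j hij h
        have h2 := QuotientGroup.eq.1 h
        rw [Subgroup.mem_subgroupOf] at h2
        have h3 : (wp (data.get i).1)⁻¹ * wp (data.get j).1 ∈ N := h2
        have h4 := Phi_mul (g := wp (data.get i).1) (hN _ h3)
        rw [mul_inv_cancel_left] at h4
        have h5 := List.pairwise_iff_get.1 sep_data i j hij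
        exact sep_spec (lt_data _ (List.get_mem _ _)) (chk_data _ (List.get_mem _ _)) (chk_data _ (List.get_mem _ _)) h5
          h4.symm
      intro i j h
      by_contra hne
      rcases lt_or_gt_of_ne hne with h' | h'
      · exact key i j h' h
      · exact key j i h' h.symm
    have : Finite (Q ⧸ N.subgroupOf Q) := Quotient.finite _
    have h2 := Nat.card_le_card_of_injective _ hf
    rw [Nat.card_fin, length_data] at h2
    exact h2
  have h2 := relIndex_mul_card hNQ
  rw [card_Q] at h2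
  by_contra h3
  rw [not_lt] at h3
  have h4 := Nat.mul_le_mul h1 h3
  omega

/-- the element `x` of `T` -/
noncomputable def xT : T := ⟨xp, Q_le_T xp_mem⟩

/-- **`|N_T(<x>)| < 64`** -/
theorem card_normT : Nat.card ↥(Subgroup.normalizer (Subgroup.zpowers xT : Set T)) < 64 := by
  have hz : ∀ h : T, h ∈ Subgroup.zpowers xT ↔ (h : Equiv.Perm (Fin 4060)) ∈ Subgroup.zpowers xp := by
    intro h
    simp only [Subgroup.mem_zpowers_iff]
    constructor
    · rintro ⟨k, rfl⟩
      exact ⟨k, rfl⟩
    · rintro ⟨k, hk⟩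
      exact ⟨k, Subtype.ext hk⟩
  have hn : ∀ g ∈ (Subgroup.normalizer (Subgroup.zpowers xT : Set T)).map T.subtype,
      ∀ h, h ∈ Subgroup.zpowers xp ↔ g * h * g⁻¹ ∈ Subgroup.zpowers xp := by
    rintro _ ⟨g, hg, rfl⟩ h
    have hg' := Subgroup.mem_normalizer_iff.1 hg
    constructor
    · intro hh
      have hT : h ∈ T := (Subgroup.zpowers_le.2 (Q_le_T xp_mem)) hh
      exact (hz _).1 ((hg' ⟨h, hT⟩).1 ((hz _).2 hh))
    · intro hh
      have hT : (g : Equiv.Perm (Fin 4060)) * h * (g : Equiv.Perm (Fin 4060))⁻¹ ∈ T :=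
        (Subgroup.zpowers_le.2 (Q_le_T xp_mem)) hh
      have hT' : h ∈ T := by
        have := T.mul_mem (T.mul_mem (T.inv_mem g.2) hT) g.2
        simpa [mul_assoc] using this
      exact (hz ⟨h, hT'⟩).1 ((hg' ⟨h, hT'⟩).2 ((hz _).2 hh))
  have h1 : (Subgroup.normalizer (Subgroup.zpowers xT : Set T)).map T.subtype ≤ Q := by
    intro g hg
    refine norm_mem_Q ?_ (hn g hg)
    obtain ⟨g', -, rfl⟩ := hg
    exact g'.2
  have h2 := card_norm h1 hn
  rwa [Nat.card_congr (Subgroup.equivMapOfInjective _ _ T.subtype_injective).toEquiv.symm] at h2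

/-- **`XCond` for `T`** -/
theorem xcond_T : ∃ (x : T) (n : ℕ), orderOf x = 2 ^ n ∧
    ¬ 2 ^ (n + 2) ∣ Nat.card ↥(Subgroup.normalizer (Subgroup.zpowers x : Set T)) := by
  refine ⟨xT, 4, ?_, fun h => ?_⟩
  · rw [← orderOf_x]
    exact (Subgroup.orderOf_coe xT).symm
  · have h1 := Nat.le_of_dvd Nat.card_pos h
    have h2 := card_normT
    omega

/-- **`XCond`** -/
theorem xcond {S : Type*} [Group S] (e : T ≃* S) : ∃ (x : S) (n : ℕ), orderOf x = 2 ^ n ∧
    ¬ 2 ^ (n + 2) ∣ Nat.card ↥(Subgroup.normalizer (Subgroup.zpowers x : Set S)) := by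
  obtain ⟨x, n, h1, h2⟩ := xcond_T
  refine ⟨e x, n, (e.orderOf_eq x).trans h1, ?_⟩
  have h3 : (Subgroup.zpowers x).map e.toMonoidHom = Subgroup.zpowers (e x) := MonoidHom.map_zpowers _ _
  have h5 := Subgroup.map_equiv_normalizer_eq (Subgroup.zpowers x) e
  rw [h3] at h5
  rw [← h5, ← Nat.card_congr (Subgroup.equivMapOfInjective _ e.toMonoidHom e.injective).toEquiv]
  exact h2

end Cfsg.Agent.H189.K547.TitsX

/-!
# The Tits group: automorphisms act trivially on the Frattini quotient of a Sylow 2-subgroup (helper189, S4547)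

`Q` has unique orbits of length 2 and 8 on the 1755 subgroups of order 10240.
-/

set_option autoImplicit false
set_option maxRecDepth 100000
set_option exponentiation.threshold 5000
set_option linter.unusedSectionVars false

namespace Cfsg.Agent.H189.K547.TitsInv

open Cfsg Cfsg.Agent.H805.K4.Bit Cfsg.Agent.H805.K4.TitsSyl
open Cfsg.Agent.SporadicB.RuData Cfsg.Agent.SporadicB.RuOrder Cfsg.Agent.SporadicB.RuTitsData
open Cfsg.Agent.SporadicB.RuTits
open Cfsg.Agent.Lib.BitNet Cfsg.Agent.Lib.BitNetSimple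
open Cfsg.Agent.H707.RowTitsModel Cfsg.Agent.H600.EBOrb Cfsg.Agent.H600
open MulAction

/-! ### pairs of masks which are fixed or interchanged -/

/-- the preimage of `a` is `b` -/
def Sw (a b : ℕ) (q : Equiv.Perm (Fin 4060)) : Prop := ∀ x : Fin 4060, a.testBit (q x) = b.testBit x

/-- both are fixed, or they are interchanged -/
def D (a b : ℕ) (q : Equiv.Perm (Fin 4060)) : Prop := (Sw a a q ∧ Sw b b q) ∨ (Sw a b q ∧ Sw b a q)

theorem sw_of {l : List (ℕ × ℕ)} (ok : OkNet 4060 l) {a b : ℕ} (h : Nat.beq (appMF l b) a = true) : Sw a b (perm ok) := by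
  intro x
  rw [appMF_eq] at h
  rw [← Nat.eq_of_beq_eq_true h]
  exact testBit_appM ok.valid b x

theorem Sw.mul {a b c : ℕ} {p q : Equiv.Perm (Fin 4060)} (hp : Sw a b p) (hq : Sw b c q) : Sw a c (p * q) := by
  intro x
  rw [Equiv.Perm.mul_apply, hp, hq]

theorem Sw.inv {a b : ℕ} {p : Equiv.Perm (Fin 4060)} (hp : Sw a b p) : Sw b a p⁻¹ := by
  intro x
  rw [← hp]
  congr 2
  exact p.apply_symm_apply x

/-- a pair for `Q` -/
structure Pair (a b : ℕ) : Prop where
  hk : D a b (perm qk.1)
  hg : D a b (perm qg.1)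
  ne : ∃ x : Fin 4060, a.testBit x ≠ b.testBit x

variable {a b : ℕ}

theorem Pair.dich (h : Pair a b) {q : Equiv.Perm (Fin 4060)} (hq : q ∈ Q) : D a b q := by
  induction hq using Subgroup.closure_induction with
  | mem x hx =>
    rcases hx with rfl | rfl
    · exact h.hk
    · exact h.hg
  | one => exact Or.inl ⟨fun _ => rfl, fun _ => rfl⟩
  | mul x y _ _ hx hy =>
    rcases hx with ⟨h1, h2⟩ | ⟨h1, h2⟩ <;> rcases hy with ⟨h3, h4⟩ | ⟨h3, h4⟩
    · exact Or.inl ⟨h1.mul h3, h2.mul h4⟩
    · exact Or.inr ⟨h1.mul h3, h2.mul h4⟩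
    · exact Or.inr ⟨h1.mul h4, h2.mul h3⟩
    · exact Or.inl ⟨h1.mul h4, h2.mul h3⟩
  | inv x _ hx =>
    rcases hx with ⟨h1, h2⟩ | ⟨h1, h2⟩
    · exact Or.inl ⟨h1.inv, h2.inv⟩
    · exact Or.inr ⟨h2.inv, h1.inv⟩

theorem Pair.not_both (h : Pair a b) {q : Equiv.Perm (Fin 4060)} (h1 : Sw a a q) (h2 : Sw a b q) : False := by
  obtain ⟨x, hx⟩ := h.ne
  exact hx ((h1 x).symm.trans (h2 x))

theorem Pair.mul (h : Pair a b) {p q : Equiv.Perm (Fin 4060)} (hp : p ∈ Q) (hq : q ∈ Q) :
    Sw a a (p * q) ↔ (Sw a a p ↔ Sw a a q) := by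
  rcases h.dich hp with ⟨h1, h2⟩ | ⟨h1, h2⟩ <;> rcases h.dich hq with ⟨h3, h4⟩ | ⟨h3, h4⟩
  · exact ⟨fun _ => ⟨fun _ => h3, fun _ => h1⟩, fun _ => h1.mul h3⟩
  · exact ⟨fun h' => (h.not_both h' (h1.mul h3)).elim, fun h' => (h.not_both (h'.1 h1) h3).elim⟩
  · exact ⟨fun h' => (h.not_both h' (h1.mul h4)).elim, fun h' => (h.not_both (h'.2 h3) h1).elim⟩
  · exact ⟨fun _ => ⟨fun h' => (h.not_both h' h1).elim, fun h' => (h.not_both h' h3).elim⟩, fun _ => h1.mul h4⟩

theorem Pair.inv (h : Pair a b) {p : Equiv.Perm (Fin 4060)} (hp : p ∈ Q) : Sw a a p⁻¹ ↔ Sw a a p := by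
  have h1 := h.mul (Q.inv_mem hp) hp
  rw [inv_mul_cancel] at h1
  exact h1.1 fun _ => rfl

/-! ### the pairs -/

/-- half of the orbit of length 8 -/
def mA : ℕ := Nat.lor (Nat.lor (Nat.pow 2 189) (Nat.pow 2 2088)) (Nat.lor (Nat.pow 2 2337) (Nat.pow 2 3566))

/-- the other half of the orbit of length 8 -/
def mB : ℕ := Nat.lor (Nat.lor (Nat.pow 2 2338) (Nat.pow 2 2430)) (Nat.lor (Nat.pow 2 3003) (Nat.pow 2 3510))

def mz1 : ℕ := Nat.pow 2 297
def mz2 : ℕ := Nat.pow 2 2606

theorem kA : Nat.beq (appMF k1 mB) mA = true := by decide +kernel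
theorem kB : Nat.beq (appMF k1 mA) mB = true := by decide +kernel
theorem gA : Nat.beq (appMF g2 mA) mA = true := by decide +kernel
theorem gB : Nat.beq (appMF g2 mB) mB = true := by decide +kernel

theorem kz1 : Nat.beq (appMF k1 mz1) mz1 = true := by decide +kernel
theorem kz2 : Nat.beq (appMF k1 mz2) mz2 = true := by decide +kernel
theorem gz1 : Nat.beq (appMF g2 mz2) mz1 = true := by decide +kernel
theorem gz2 : Nat.beq (appMF g2 mz1) mz2 = true := by decide +kernel

theorem pairA : Pair mA mB where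
  hk := Or.inr ⟨sw_of _ kA, sw_of _ kB⟩
  hg := Or.inl ⟨sw_of _ gA, sw_of _ gB⟩
  ne := ⟨⟨189, by norm_num⟩, by decide +kernel⟩

theorem pairZ : Pair mz1 mz2 where
  hk := Or.inl ⟨sw_of _ kz1, sw_of _ kz2⟩
  hg := Or.inr ⟨sw_of _ gz1, sw_of _ gz2⟩
  ne := ⟨⟨297, by norm_num⟩, by decide +kernel⟩


/-! ### the orbits of `Q` on the 1755 points -/

/-- `Q` as a subgroup of `T` -/
def QT : Subgroup T := Q.subgroupOf T

theorem mem_QT {t : T} : t ∈ QT ↔ (t : Equiv.Perm (Fin 4060)) ∈ Q := Subgroup.mem_subgroupOf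

theorem card_QT : Nat.card QT = 2048 := by
  rw [QT, Nat.card_congr (Subgroup.subgroupOfEquivOfLe Q_le_T).toEquiv, card_Q]

/-- the length of the orbit of a point -/
noncomputable def len (x : X) : ℕ := (stabilizer T x).relIndex QT

theorem len_eq (x : X) : len x = Nat.card (orbit QT x) := by
  have h1 := index_stabilizer (G := QT) x
  rw [Nat.card_coe_set_eq, ← h1]
  rfl

/-- the length of an orbit given by a mask -/
theorem len_of_mask {m c : ℕ} {b : Fin 4060} {k : ℕ} (hinv : ∀ q ∈ Q, Sw m m q)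
    (htr : Nat.beq (iterF [k1, g2] k (Nat.pow 2 b)) m = true) (hc : Nat.beq (popc 12 m) c = true)
    (hlt : Nat.blt m (Nat.pow 2 4060) = true) (hrow : Nat.beq (Nat.land m (row 0)) m = true) {x : X}
    (hx : m.testBit x.1 = true) : len x = c := by
  classical
  rw [len_eq]
  have h1 : ∀ y : X, y ∈ orbit QT x ↔ m.testBit y.1 = true := by
    intro y
    constructor
    · rintro ⟨q, rfl⟩
      show m.testBit (((q : T) • x : X)).1 = true
      rw [H707.RowTitsModel.smul_val, hinv _ (mem_QT.1 q.2)]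
      exact hx
    · intro hy
      obtain ⟨q1, hq1, e1⟩ := exists_of_iterF gensQ htr hx
      obtain ⟨q2, hq2, e2⟩ := exists_of_iterF gensQ htr hy
      have h3 : q2 * q1⁻¹ ∈ Q := Q.mul_mem hq2 (Q.inv_mem hq1)
      refine ⟨⟨⟨q2 * q1⁻¹, Q_le_T h3⟩, mem_QT.2 h3⟩, ?_⟩
      apply Subtype.ext
      show (q2 * q1⁻¹) x.1 = y.1
      rw [Equiv.Perm.mul_apply, ← e1]
      have e3 : q1⁻¹ (q1 b) = b := q1.symm_apply_apply b
      rw [e3, e2]
  have h2 : orbit QT x = ((Finset.univ.filter fun y : X => m.testBit y.1 = true : Finset X) : Set X) := by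
    ext y
    rw [h1]
    simp
  rw [h2, Nat.card_coe_set_eq, Set.ncard_coe_finset]
  refine card_class m c hc hlt ?_ _ ?_
  · intro y hy
    have e : Nat.land m (row 0) = m &&& row 0 := rfl
    rw [e] at hrow
    rw [← Nat.eq_of_beq_eq_true hrow, Nat.testBit_and, Bool.and_eq_true] at hy
    exact hy.2
  · intro y
    simp

/-- the orbit of length 8 -/
def m8 : ℕ := Nat.lor mA mB

theorem m8_tr : Nat.beq (iterF [k1, g2] 4 (Nat.pow 2 189)) m8 = true := by decide +kernel
theorem mz_tr : Nat.beq (iterF [k1, g2] 1 (Nat.pow 2 297)) mz = true := by decide +kernel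
theorem m8_c : Nat.beq (popc 12 m8) 8 = true := by decide +kernel
theorem m8_lt : Nat.blt m8 (Nat.pow 2 4060) = true := by decide +kernel
theorem mz_lt : Nat.blt mz (Nat.pow 2 4060) = true := by decide +kernel
theorem m8_row : Nat.beq (Nat.land m8 (row 0)) m8 = true := by decide +kernel
theorem mz_row : Nat.beq (Nat.land mz (row 0)) mz = true := by decide +kernel
theorem c10_eq : Nat.beq (cm 1) (Nat.lor mz m8) = true := by decide +kernel

theorem m8_inv (q : Equiv.Perm (Fin 4060)) (hq : q ∈ Q) : Sw m8 m8 q := by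
  intro x
  have e : m8 = mA ||| mB := rfl
  rw [e, Nat.testBit_or, Nat.testBit_or]
  rcases pairA.dich hq with ⟨h1, h2⟩ | ⟨h1, h2⟩
  · rw [h1, h2]
  · rw [h1, h2, Bool.or_comm]

theorem len_z {x : X} (hx : mz.testBit x.1 = true) : len x = 2 :=
  len_of_mask (b := ⟨297, by norm_num⟩) mz_inv mz_tr popc_mz mz_lt mz_row hx

theorem len_8 {x : X} (hx : m8.testBit x.1 = true) : len x = 8 :=
  len_of_mask (b := ⟨189, by norm_num⟩) m8_inv m8_tr m8_c m8_lt m8_row hx

theorem act_refl (s : T) (x : X) : s • x = (MulEquiv.refl T) s • x := rfl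

theorem len_0 {x : X} (hx : cls x = 0) : len x = 1 := by
  have h1 := EBPts.cls_eq_zero hx
  rw [len, Subgroup.relIndex_eq_one]
  intro t ht
  rw [h1, mem_stabilizer_iff]
  apply Subtype.ext
  exact (Q_le (mem_QT.1 ht)).2

theorem QT_le : QT ≤ stabilizer T (r 0) := by
  intro t ht
  rw [mem_stabilizer_iff]
  apply Subtype.ext
  exact (Q_le (mem_QT.1 ht)).2

theorem len_big {x : X} (hx : 80 ≤ ks (cls x)) : 16 ≤ len x := by
  have h1 := Subgroup.card_mul_index (QT.subgroupOf (stabilizer T (r 0)))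
  rw [Nat.card_congr (Subgroup.subgroupOfEquivOfLe QT_le).toEquiv, card_QT, EBPts.card_stab act_refl] at h1
  have h2 : QT.relIndex (stabilizer T (r 0)) = (QT.subgroupOf (stabilizer T (r 0))).index := rfl
  have h3 : (stabilizer T x).relIndex (stabilizer T (r 0)) = ks (cls x) := by
    rw [← EBPts.card_orbit act_refl x, Nat.card_coe_set_eq]
    exact index_stabilizer (G := stabilizer T (r 0)) x
  have h4 : (stabilizer T x).relIndex (stabilizer T (r 0)) ≤ (stabilizer T x ⊓ QT).relIndex (stabilizer T (r 0)) :=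
    Subgroup.relIndex_le_of_le_left inf_le_left Subgroup.index_ne_zero_of_finite
  have h5 := Subgroup.relIndex_mul_relIndex (stabilizer T x ⊓ QT) QT (stabilizer T (r 0)) inf_le_right QT_le
  rw [Subgroup.inf_relIndex_right] at h5
  have h6 : QT.relIndex (stabilizer T (r 0)) = 5 := by omega
  rw [h6] at h5
  rw [h3] at h4
  rw [len]
  omega

/-- the kinds of points -/
theorem kinds (x : X) : len x = 1 ∨ mz.testBit x.1 = true ∨ m8.testBit x.1 = true ∨ 16 ≤ len x := by
  by_cases h0 : cls x = 0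
  · exact Or.inl (len_0 h0)
  by_cases h1 : cls x = 1
  · have h2 := cls_spec x
    rw [h1, Nat.eq_of_beq_eq_true c10_eq] at h2
    have e : Nat.lor mz m8 = mz ||| m8 := rfl
    rw [e, Nat.testBit_or, Bool.or_eq_true] at h2
    rcases h2 with h2 | h2
    · exact Or.inr (Or.inl h2)
    · exact Or.inr (Or.inr (Or.inl h2))
  · refine Or.inr (Or.inr (Or.inr (len_big ?_)))
    have key : ∀ i : Fin 5, i ≠ 0 → i ≠ 1 → 80 ≤ ks i := by decide
    exact key _ h0 h1

theorem mz_of_len {x : X} (h : len x = 2) : mz.testBit x.1 = true := by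
  rcases kinds x with h1 | h1 | h1 | h1
  · omega
  · exact h1
  · have := len_8 h1
    omega
  · omega

theorem m8_of_len {x : X} (h : len x = 8) : m8.testBit x.1 = true := by
  rcases kinds x with h1 | h1 | h1 | h1
  · omega
  · have := len_z h1
    omega
  · exact h1
  · omega

/-! ### automorphisms preserving `Q` -/

section aut

variable {β : MulAut T} (hβ : QT.map β.toMonoidHom = QT)

include hβ

theorem map_QT (t : T) : β t ∈ QT ↔ t ∈ QT := by
  constructor
  · intro h
    rw [← hβ] at h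
    obtain ⟨s, hs, hst⟩ := h
    have : s = t := β.injective hst
    rwa [← this]
  · intro h
    rw [← hβ]
    exact ⟨t, h, rfl⟩

theorem exists_img (x : X) : ∃ y : X, (∀ t : T, β t • y = y ↔ t • x = x) ∧ len y = len x := by
  obtain ⟨y, hy⟩ := EBPts.exists_pt act_refl ((stabilizer T x).map β.toMonoidHom) (by
    rw [Nat.card_congr ((stabilizer T x).equivMapOfInjective _ β.injective).toEquiv.symm, EBPts.card_stab act_refl])
  refine ⟨y, fun t => ?_, ?_⟩
  · have h1 : β t ∈ stabilizer T y ↔ t ∈ stabilizer T x := by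
      rw [← hy]
      constructor
      · rintro ⟨s, hs, hst⟩
        have : s = t := β.injective hst
        rwa [← this]
      · intro h
        exact ⟨t, h, rfl⟩
    exact h1
  · rw [len, len, ← hy, ← hβ, Subgroup.relIndex_map_map_of_injective _ _ β.injective, hβ]

/-- the elements of `Q` fixing a point of the orbit of length 8 preserve the halves -/
theorem sw_of_fix {q : Equiv.Perm (Fin 4060)} (hq : q ∈ Q) {y : Fin 4060} (hy : m8.testBit y = true) (hf : q y = y) :
    Sw mA mA q := by
  rcases pairA.dich hq with ⟨h1, -⟩ | ⟨h1, h2⟩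
  · exact h1
  · exfalso
    have h3 := h1 y
    rw [hf] at h3
    have e : m8 = mA ||| mB := rfl
    rw [e, Nat.testBit_or, h3, Bool.or_self] at hy
    have h4 : mA.testBit y = true := by rw [h3, hy]
    have h5 : (mA &&& mB).testBit y = true := by
      rw [Nat.testBit_and, h4, hy]
      rfl
    have h6 : mA &&& mB = 0 := by decide +kernel
    rw [h6, Nat.zero_testBit] at h5
    exact Bool.noConfusion h5

end aut

theorem g189 : Nat.beq (appF g2 189) 189 = true := by decide +kernel
theorem m8_189 : tb m8 189 = true := by decide +kernel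
theorem row_189 : tb (row 0) 189 = true := by decide +kernel
theorem row_297 : tb (row 0) 297 = true := by decide +kernel

/-- the point 189 -/
def x189 : X := ⟨⟨189, by norm_num⟩, by have := row_189; rwa [tb_eq] at this⟩

/-- the point 297 -/
def x297 : X := ⟨z, by have := row_297; rwa [tb_eq] at this⟩

/-- the generators in `T` -/
noncomputable def kT : T := ⟨perm qk.1, Q_le_T qk.2⟩
noncomputable def gT : T := ⟨perm qg.1, Q_le_T qg.2⟩

theorem kT_mem : kT ∈ QT := mem_QT.2 qk.2
theorem gT_mem : gT ∈ QT := mem_QT.2 qg.2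

/-- induction in `QT` for multiplicative predicates -/
theorem induct {P : T → Prop} (h1 : P 1) (hmul : ∀ s t : T, s ∈ QT → t ∈ QT → P s → P t → P (s * t))
    (hinv : ∀ s : T, s ∈ QT → P s → P s⁻¹) (hk : P kT) (hg : P gT) {t : T} (ht : t ∈ QT) : P t := by
  have key : ∀ q : Equiv.Perm (Fin 4060), q ∈ Q → ∀ hq : q ∈ T, P ⟨q, hq⟩ := by
    intro q hq
    induction hq using Subgroup.closure_induction with
    | mem x hx =>
      intro hT
      rcases hx with rfl | rfl
      · exact hk
      · exact hg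
    | one =>
      intro hT
      exact h1
    | mul x y hx hy ihx ihy =>
      intro hT
      exact hmul ⟨x, Q_le_T hx⟩ ⟨y, Q_le_T hy⟩ (mem_QT.2 hx) (mem_QT.2 hy) (ihx _) (ihy _)
    | inv x hx ihx =>
      intro hT
      exact hinv ⟨x, Q_le_T hx⟩ (mem_QT.2 hx) (ihx _)
  exact key t.1 (mem_QT.1 ht) t.2

theorem mz1_iff (y : Fin 4060) : mz1.testBit y = true ↔ (y : ℕ) = 297 := by
  have e : mz1 = 2 ^ 297 := rfl
  rw [e, Nat.testBit_two_pow, decide_eq_true_eq]
  exact eq_comm

theorem mz2_iff (y : Fin 4060) : mz2.testBit y = true ↔ (y : ℕ) = 2606 := by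
  have e : mz2 = 2 ^ 2606 := rfl
  rw [e, Nat.testBit_two_pow, decide_eq_true_eq]
  exact eq_comm

theorem fix_iff {q : Equiv.Perm (Fin 4060)} (hq : q ∈ Q) {y : Fin 4060} (hy : mz.testBit y = true) :
    q y = y ↔ Sw mz1 mz1 q := by
  have e2 : mz = mz1 ||| mz2 := by decide +kernel
  rw [e2, Nat.testBit_or, Bool.or_eq_true] at hy
  constructor
  · intro h
    rcases pairZ.dich hq with ⟨h1, -⟩ | ⟨h1, h2⟩
    · exact h1
    · exfalso
      have h3 := h1 y
      rw [h] at h3
      have h4 : mz1.testBit y = true ∧ mz2.testBit y = true := by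
        rcases hy with hy | hy
        · exact ⟨hy, by rw [← h3, hy]⟩
        · exact ⟨by rw [h3, hy], hy⟩
      have h5 := (mz1_iff y).1 h4.1
      have h6 := (mz2_iff y).1 h4.2
      omega
  · intro h
    rcases pairZ.dich hq with ⟨h1, h2⟩ | ⟨h1, -⟩
    · rcases hy with hy | hy
      · have h3 := h1 y
        rw [hy] at h3
        exact Fin.ext (((mz1_iff _).1 h3).trans ((mz1_iff _).1 hy).symm)
      · have h3 := h2 y
        rw [hy] at h3
        exact Fin.ext (((mz2_iff _).1 h3).trans ((mz2_iff _).1 hy).symm)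
    · exact (pairZ.not_both h h1).elim

section aut2

variable {β : MulAut T} (hβ : QT.map β.toMonoidHom = QT)

include hβ

/-- the stabiliser of 297 in `Q` is invariant -/
theorem inv_z {t : T} (ht : t ∈ QT) : Sw mz1 mz1 (β t : T).1 ↔ Sw mz1 mz1 t.1 := by
  obtain ⟨y, hy, hy2⟩ := exists_img hβ x297
  have hz : mz.testBit x297.1 = true := by
    have := mz_z
    rwa [tb_eq] at this
  have hm : mz.testBit y.1 = true := mz_of_len (hy2.trans (len_z hz))
  rw [← fix_iff (mem_QT.1 ht) hz, ← fix_iff (mem_QT.1 ((map_QT hβ _).2 ht)) hm]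
  constructor
  · intro h
    exact congrArg Subtype.val ((hy t).1 (Subtype.ext h))
  · intro h
    exact congrArg Subtype.val ((hy t).2 (Subtype.ext h))

/-- the halves of the orbit of length 8 are invariant -/
theorem inv_A {t : T} (ht : t ∈ QT) : Sw mA mA (β t : T).1 ↔ Sw mA mA t.1 := by
  obtain ⟨y, hy, hy8⟩ := exists_img hβ x189
  have hm : m8.testBit y.1 = true := m8_of_len (hy8.trans (len_8 (by have := m8_189; rwa [tb_eq] at this)))
  have hgf : gT • x189 = x189 := by
    apply Subtype.ext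
    apply Fin.ext
    show app g2 189 = 189
    rw [← appF_eq]
    exact Nat.eq_of_beq_eq_true g189
  have hβQ : ∀ {s : T}, s ∈ QT → (β s : T).1 ∈ Q := fun hs => mem_QT.1 ((map_QT hβ _).2 hs)
  have hg1 : Sw mA mA (β gT : T).1 := sw_of_fix hβ (hβQ gT_mem) hm (congrArg Subtype.val ((hy gT).2 hgf))
  have hg0 : Sw mA mA gT.1 := sw_of qg.1 gA
  have hk0 : ¬ Sw mA mA kT.1 := fun h => pairA.not_both h (sw_of qk.1 kA)
  have hk1 : ¬ Sw mA mA (β kT : T).1 := by
    intro h
    have key : ∀ s ∈ QT, Sw mA mA (β s : T).1 := by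
      intro s hs
      refine induct (P := fun s => Sw mA mA (β s : T).1) ?_ ?_ ?_ h hg1 hs
      · rw [map_one]
        exact fun _ => rfl
      · intro s t hs ht h1 h2
        rw [map_mul]
        exact (pairA.mul (hβQ hs) (hβQ ht)).2 ⟨fun _ => h2, fun _ => h1⟩
      · intro s hs h1
        rw [map_inv]
        exact (pairA.inv (hβQ hs)).2 h1
    have h2 := key (β.symm kT) (by
      rw [← map_QT hβ, MulEquiv.apply_symm_apply]
      exact kT_mem)
    rw [MulEquiv.apply_symm_apply] at h2
    exact hk0 h2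
  refine induct (P := fun s => Sw mA mA (β s : T).1 ↔ Sw mA mA s.1) ?_ ?_ ?_ ?_ ?_ ht
  · rw [map_one]
  · intro s t hs ht h1 h2
    rw [map_mul]
    have e1 := pairA.mul (hβQ hs) (hβQ ht)
    have e2 := pairA.mul (mem_QT.1 hs) (mem_QT.1 ht)
    exact e1.trans ((iff_congr h1 h2).trans e2.symm)
  · intro s hs h1
    rw [map_inv]
    exact (pairA.inv (hβQ hs)).trans (h1.trans (pairA.inv (mem_QT.1 hs)).symm)
  · exact ⟨fun h => (hk1 h).elim, fun h => (hk0 h).elim⟩
  · exact ⟨fun _ => hg0, fun _ => hg1⟩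

end aut2

/-! ### the homomorphism -/

/-- two predicates which are homomorphisms onto a group of order 2, independent -/
theorem exists_hom {P : Type*} [Group P] (h : Fin 2 → P → Prop) (hmul : ∀ i a b, h i (a * b) ↔ (h i a ↔ h i b))
    (a b : P) (ha0 : ¬ h 0 a) (ha1 : h 1 a) (hb0 : h 0 b) (hb1 : ¬ h 1 b) :
    ∃ f : P →* Multiplicative (Fin 2 → ZMod 2), Function.Surjective f ∧
      ∀ x y : P, (∀ i, h i x ↔ h i y) → f x = f y := by
  classical
  have h1 : ∀ i, h i 1 := by
    intro i
    have := hmul i 1 1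
    rw [mul_one] at this
    tauto
  let g : P → Fin 2 → ZMod 2 := fun x i => if h i x then 0 else 1
  have hadd : ∀ x y, g (x * y) = g x + g y := by
    intro x y
    funext i
    have h2 : (1 : ZMod 2) + 1 = 0 := by decide
    simp only [g, Pi.add_apply, hmul]
    by_cases hx : h i x <;> by_cases hy : h i y <;> simp [hx, hy, h2]
  let f : P →* Multiplicative (Fin 2 → ZMod 2) :=
    { toFun := fun x => Multiplicative.ofAdd (g x)
      map_one' := by
        have : g 1 = 0 := by
          funext i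
          simp [g, h1]
        rw [this]
        rfl
      map_mul' := fun x y => by
        rw [hadd]
        rfl }
  refine ⟨f, ?_, ?_⟩
  · have hz : ∀ z : ZMod 2, z = 0 ∨ z = 1 := by decide
    have h2 : (1 : ZMod 2) + 1 = 0 := by decide
    have key : ∀ v : Fin 2 → ZMod 2, ∃ x, g x = v := by
      intro v
      have ga : g a = ![1, 0] := by
        funext i
        fin_cases i <;> simp [g, ha0, ha1]
      have gb : g b = ![0, 1] := by
        funext i
        fin_cases i <;> simp [g, hb0, hb1]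
      rcases hz (v 0) with h0 | h0 <;> rcases hz (v 1) with h3 | h3
      · refine ⟨1, funext fun i => ?_⟩
        fin_cases i
        · simpa [g, h1] using h0.symm
        · simpa [g, h1] using h3.symm
      · refine ⟨b, ?_⟩
        rw [gb]
        funext i
        fin_cases i
        · exact h0.symm
        · exact h3.symm
      · refine ⟨a, ?_⟩
        rw [ga]
        funext i
        fin_cases i
        · exact h0.symm
        · exact h3.symm
      · refine ⟨a * b, ?_⟩
        rw [hadd, ga, gb]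
        funext i
        fin_cases i
        · simpa using h0.symm
        · simpa using h3.symm
    intro v
    obtain ⟨x, hx⟩ := key (Multiplicative.toAdd v)
    refine ⟨x, ?_⟩
    show Multiplicative.ofAdd (g x) = v
    rw [hx]
    rfl
  · intro x y hxy
    show Multiplicative.ofAdd (g x) = Multiplicative.ofAdd (g y)
    congr 1
    funext i
    simp only [g, hxy i]

/-- the two predicates -/
def hT : Fin 2 → T → Prop := ![fun t => Sw mz1 mz1 t.1, fun t => Sw mA mA t.1]

theorem exists_equiv {S : Type*} [Group S] [Finite S] (e : T ≃* S) (P : Sylow 2 S) :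
    ∃ e' : T ≃* S, QT.map e'.toMonoidHom = (P : Subgroup S) := by
  have : Fact (Nat.Prime 2) := ⟨Nat.prime_two⟩
  have hc : Nat.card QT = 2 ^ (Nat.card T).factorization 2 := by
    rw [card_QT, card_T]
    have h1 : (17971200 : ℕ) = 2 ^ 11 * 8775 := by norm_num
    have h2 : Nat.factorization (2 ^ 11 * 8775) 2 = 11 := by
      rw [Nat.factorization_mul (by norm_num) (by norm_num), Nat.factorization_pow]
      rw [Finsupp.add_apply, Finsupp.smul_apply, Nat.prime_two.factorization_self]
      rw [Nat.factorization_eq_zero_of_not_dvd (by norm_num)]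
      norm_num
    rw [h1, h2]
    norm_num
  let P₀ : Sylow 2 T := Sylow.ofCard QT hc
  have hP' : Nat.card ((P : Subgroup S).map e.symm.toMonoidHom) = 2 ^ (Nat.card T).factorization 2 := by
    rw [Nat.card_congr ((P : Subgroup S).equivMapOfInjective _ e.symm.injective).toEquiv.symm,
      Nat.card_congr e.toEquiv]
    exact P.card_eq_multiplicity
  let P' : Sylow 2 T := Sylow.ofCard _ hP'
  obtain ⟨t, ht⟩ := MulAction.exists_smul_eq T P₀ P'
  have h1 : QT.map (MulAut.conj t).toMonoidHom = (P : Subgroup S).map e.symm.toMonoidHom :=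
    congrArg Sylow.toSubgroup ht
  refine ⟨(MulAut.conj t).trans e, ?_⟩
  have h2 : ((MulAut.conj t).trans e).toMonoidHom = e.toMonoidHom.comp (MulAut.conj t).toMonoidHom := rfl
  rw [h2, ← Subgroup.map_map, h1, Subgroup.map_map]
  have h3 : e.toMonoidHom.comp e.symm.toMonoidHom = MonoidHom.id S := by
    ext x
    exact e.apply_symm_apply x
  rw [h3, Subgroup.map_id]

/-- **A homomorphism of the Sylow 2-subgroups onto the four-group, invariant under all automorphisms.** -/
theorem exists_f {S : Type*} [Group S] [Finite S] (e : T ≃* S) (P : Sylow 2 S) (α : MulAut S)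
    (hα : (P : Subgroup S).map α.toMonoidHom = P) : ∃ f : P →* Multiplicative (Fin 2 → ZMod 2),
      Function.Surjective f ∧ ∀ x y : P, (y : S) = α x → f y = f x := by
  obtain ⟨e', he'⟩ := exists_equiv e P
  have hmem : ∀ x : P, e'.symm x ∈ QT := by
    intro x
    have h1 : (x : S) ∈ QT.map e'.toMonoidHom := by
      rw [he']
      exact x.2
    obtain ⟨t, ht, htx⟩ := h1
    have h2 : e'.symm x = t := by
      rw [← htx]
      exact e'.symm_apply_apply t
    rwa [h2]
  have hmemP : ∀ {t : T}, t ∈ QT → e' t ∈ (P : Subgroup S) := by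
    intro t ht
    rw [← he']
    exact ⟨t, ht, rfl⟩
  let β : MulAut T := (e'.trans α).trans e'.symm
  have hβ : QT.map β.toMonoidHom = QT := by
    have h2 : β.toMonoidHom = (e'.symm.toMonoidHom.comp α.toMonoidHom).comp e'.toMonoidHom := rfl
    rw [h2, ← Subgroup.map_map, he', ← Subgroup.map_map, hα, ← he', Subgroup.map_map]
    have h3 : e'.symm.toMonoidHom.comp e'.toMonoidHom = MonoidHom.id T :=
      MonoidHom.ext fun x => e'.symm_apply_apply x
    rw [h3, Subgroup.map_id]
  obtain ⟨f, hf, hf'⟩ := exists_hom (P := P) (fun i x => hT i (e'.symm x)) (by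
      intro i a b
      have h1 : e'.symm ((a * b : P) : S) = e'.symm a * e'.symm b := by
        rw [Subgroup.coe_mul, map_mul]
      show hT i (e'.symm ((a * b : P) : S)) ↔ _
      rw [h1]
      fin_cases i
      · exact pairZ.mul (mem_QT.1 (hmem a)) (mem_QT.1 (hmem b))
      · exact pairA.mul (mem_QT.1 (hmem a)) (mem_QT.1 (hmem b)))
    ⟨e' gT, hmemP gT_mem⟩ ⟨e' kT, hmemP kT_mem⟩ (by
      show ¬ Sw mz1 mz1 (e'.symm (e' gT)).1
      rw [e'.symm_apply_apply]
      exact fun h => pairZ.not_both h (sw_of qg.1 gz1)) (by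
      show Sw mA mA (e'.symm (e' gT)).1
      rw [e'.symm_apply_apply]
      exact sw_of qg.1 gA) (by
      show Sw mz1 mz1 (e'.symm (e' kT)).1
      rw [e'.symm_apply_apply]
      exact sw_of qk.1 kz1) (by
      show ¬ Sw mA mA (e'.symm (e' kT)).1
      rw [e'.symm_apply_apply]
      exact fun h => pairA.not_both h (sw_of qk.1 kA))
  refine ⟨f, hf, fun x y hxy => hf' y x fun i => ?_⟩
  have h1 : e'.symm (y : S) = β (e'.symm x) := by
    rw [hxy]
    show _ = e'.symm (α (e' (e'.symm x)))
    rw [e'.apply_symm_apply]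
  show hT i (e'.symm (y : S)) ↔ hT i (e'.symm (x : S))
  rw [h1]
  fin_cases i
  · exact inv_z hβ (hmem x)
  · exact inv_A hβ (hmem x)

end Cfsg.Agent.H189.K547.TitsInv

/-!
# The Tits group: three characters invariant under all automorphisms (helper189, S4547)

The constituents of degree 1, 351, 675 of the permutation character on the 1755 subgroups of order 10240.
-/

set_option autoImplicit false
set_option maxRecDepth 100000

namespace Cfsg.Agent.H189.K547.TitsChar

open Cfsg Cfsg.Agent.Characters Cfsg.Agent.H694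
open scoped ComplexConjugate
open Cfsg.Agent.Characters.Core
open Cfsg.Agent.H610 Cfsg.Agent.H610.EB
open Cfsg.Agent.H707.RowTitsModel Cfsg.Agent.H600.EBOrb Cfsg.Agent.H600
open Cfsg.Agent.SporadicB.RuTits
open Cfsg.Agent.H601.K4 Cfsg.Agent.H821.K547
open MulAction

universe u

/-- five constituents of a character of norm at most 5 are all of them -/
theorem eq_of_five {G : Type u} [Group G] [Fintype G] {π : G → ℂ} (hπ : IsCharacter G π) {q : ℕ} (hq5 : q ≤ 5)
    (hq : classInner π π = q) (f : Fin 5 → IrrCharacter G) (hf : Function.Injective f)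
    (hf' : ∀ i, classInner π (f i : G → ℂ) ≠ 0) (θ : IrrCharacter G) (hθ : classInner π (θ : G → ℂ) ≠ 0) :
    ∃ i, θ = f i := by
  classical
  have : Finite (IrrCharacter G) := finite_irr
  let _ : Fintype (IrrCharacter G) := Fintype.ofFinite _
  have hm0 : ∀ χ : IrrCharacter G, ∃ n : ℕ, classInner π (χ : G → ℂ) = n := fun χ =>
    classInner_isNat hπ (isIrr_isCharacter χ.2)
  choose m hm using hm0
  have h1 := EBCnt.sum_sq (isCharacter_isClassFunction hπ) m hm hq
  have hpos : ∀ χ : IrrCharacter G, classInner π (χ : G → ℂ) ≠ 0 → 1 ≤ m χ ^ 2 := by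
    intro χ hχ
    rw [hm] at hχ
    exact Nat.one_le_iff_ne_zero.2 fun h => hχ (by rw [pow_eq_zero_iff two_ne_zero] at h; rw [h]; simp)
  by_contra hne
  push Not at hne
  have h2 : (insert θ (Finset.univ.map ⟨f, hf⟩) : Finset (IrrCharacter G)).card = 6 := by
    rw [Finset.card_insert_of_notMem, Finset.card_map, Finset.card_univ, Fintype.card_fin]
    simp only [Finset.mem_map, Finset.mem_univ, true_and, Function.Embedding.coeFn_mk, not_exists]
    exact fun i h => hne i h.symm
  have h3 : (insert θ (Finset.univ.map ⟨f, hf⟩) : Finset (IrrCharacter G)).card • 1 ≤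
      ∑ χ ∈ (insert θ (Finset.univ.map ⟨f, hf⟩) : Finset (IrrCharacter G)), m χ ^ 2 := by
    refine Finset.card_nsmul_le_sum _ _ _ fun χ hχ => hpos χ ?_
    rcases Finset.mem_insert.1 hχ with rfl | hχ
    · exact hθ
    · obtain ⟨i, -, rfl⟩ := Finset.mem_map.1 hχ
      exact hf' i
  rw [h2, smul_eq_mul] at h3
  have h4 := h3.trans (Finset.sum_le_sum_of_subset (Finset.subset_univ _))
  rw [h1] at h4
  omega

/-- the degrees -/
def deg5 : Fin 5 → ℕ := ![1, 78, 351, 650, 675]

theorem deg5_inj : Function.Injective deg5 := by decide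

section S

variable {S : Type u} [Group S] [Fintype S] {e : S ≃* T} [MulAction S X] (hact : ∀ (s : S) (x : X), s • x = e s • x)

include hact

theorem exists_gamma :
    ∃ χ : IrrCharacter S, charDegree (χ : S → ℂ) = 351 ∧ classInner (permC S X) (χ : S → ℂ) ≠ 0 := by
  have := EBPts.pret hact
  exact EBSph.exists_of_graph_rat E10 (EBPts.E10_act hact) (r 0) cls r (EBPts.cls_act hact) (EBPts.htr hact) B' EBOrb.count
    ks count_cls 0 (cls_r 0) ![1, 1/2, 1/8, 0, -1/64] 5
    ![![0,0,0,0,0], ![1/10,0,0,0,0], ![1/20,1/8,0,0,0], ![1/80,1/16,1/8,0,0], ![0,1/64,1/16,1/8,0]]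
    351 1755 card_X (by decide +kernel) (by decide +kernel) (by decide +kernel) (by decide +kernel)

theorem exists_delta :
    ∃ χ : IrrCharacter S, charDegree (χ : S → ℂ) = 675 ∧ classInner (permC S X) (χ : S → ℂ) ≠ 0 := by
  have := EBPts.pret hact
  exact EBSph.exists_of_graph_rat E10 (EBPts.E10_act hact) (r 0) cls r (EBPts.cls_act hact) (EBPts.htr hact) B' EBOrb.count
    ks count_cls 0 (cls_r 0) ![1, -3/10, 1/40, 1/40, -1/64] (-3)
    ![![0,0,0,0,0], ![1/10,0,0,0,0], ![-1/20,1/8,0,0,0], ![1/80,-1/16,1/8,0,0], ![0,1/64,-1/16,1/8,0]]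
    675 1755 card_X (by decide +kernel) (by decide +kernel) (by decide +kernel) (by decide +kernel)

theorem exists_five : ∃ f : Fin 5 → IrrCharacter S, ∀ i, charDegree (f i : S → ℂ) = deg5 i ∧
    classInner (permC S X) (f i : S → ℂ) ≠ 0 := by
  obtain ⟨ε, hε⟩ := EBTits.exists_eps (S := S)
  obtain ⟨α, hα⟩ := EBTits.exists_alpha hact
  obtain ⟨β, hβ⟩ := EBTits.exists_beta hact
  obtain ⟨γ, hγ⟩ := exists_gamma hact
  obtain ⟨δ, hδ⟩ := exists_delta hact
  refine ⟨![ε, α, γ, β, δ], fun i => ?_⟩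
  fin_cases i
  exacts [hε, hα, hγ, hβ, hδ]

/-- uniqueness by the degree -/
theorem exists_uniq : ∃ f : Fin 5 → IrrCharacter S, (∀ i, charDegree (f i : S → ℂ) = deg5 i ∧
    classInner (permC S X) (f i : S → ℂ) ≠ 0) ∧ ∀ (i : Fin 5) (θ : IrrCharacter S), charDegree (θ : S → ℂ) = deg5 i →
      classInner (permC S X) (θ : S → ℂ) ≠ 0 → θ = f i := by
  obtain ⟨q, hq5, hq⟩ := EBTits.rank_le hact
  obtain ⟨f, hf⟩ := exists_five hact
  refine ⟨f, hf, fun i θ h1 h2 => ?_⟩
  have hinj : Function.Injective f := by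
    intro a b hab
    apply deg5_inj
    rw [← (hf a).1, ← (hf b).1, hab]
  obtain ⟨j, rfl⟩ := eq_of_five (Cfsg.Agent.S0157.isCharacter_fixedBy X) hq5 hq f hinj (fun i => (hf i).2) θ h2
  congr 1
  apply deg5_inj
  rw [← h1, (hf j).1]

/-- the permutation character is invariant under automorphisms -/
theorem permC_aut (τ : MulAut S) (s : S) : permC S X (τ s) = permC S X s := by
  rw [← EBTits.permS_eq_permC hact]
  show (Nat.card {H : Subgroup S // H ∈ EBTits.XX S ∧ H.map (MulAut.conj (τ s)).toMonoidHom = H} : ℂ) =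
    (Nat.card {H : Subgroup S // H ∈ EBTits.XX S ∧ H.map (MulAut.conj s).toMonoidHom = H} : ℂ)
  congr 1
  symm
  have hc : ∀ H : Subgroup S, (H.map (MulAut.conj s).toMonoidHom).map τ.toMonoidHom =
      (H.map τ.toMonoidHom).map (MulAut.conj (τ s)).toMonoidHom := by
    intro H
    rw [Subgroup.map_map, Subgroup.map_map]
    congr 1
    ext x
    simp
  refine Nat.card_congr (Equiv.subtypeEquiv (MulEquiv.mapSubgroup τ).toEquiv fun H => ?_)
  show (Nat.card H = 10240 ∧ _) ↔ (Nat.card (H.map τ.toMonoidHom) = 10240 ∧ (H.map τ.toMonoidHom).map _ = _)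
  rw [← hc, Nat.card_congr (H.equivMapOfInjective _ τ.injective).toEquiv.symm]
  refine and_congr_right fun _ => ?_
  exact (Subgroup.map_injective τ.injective).eq_iff.symm

omit [Fintype S] hact in
/-- the permutation character is rational -/
theorem permC_pow {k : ℕ} (hk : k.Coprime (Nat.card S)) (s : S) : permC S X (s ^ k) = permC S X s := by
  show (Nat.card (fixedBy X (s ^ k)) : ℂ) = (Nat.card (fixedBy X s) : ℂ)
  congr 2
  have h1 : ∀ (t : S) (m : ℕ), ∀ x : X, t • x = x → t ^ m • x = x := by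
    intro t m x ht
    induction m with
    | zero => rw [pow_zero, one_smul]
    | succ m ih => rw [pow_succ, mul_smul, ht, ih]
  obtain ⟨m, hm⟩ : ∃ m : ℕ, (s ^ k) ^ m = s :=
    exists_pow_eq_self_of_coprime (Nat.Coprime.coprime_dvd_right (orderOf_dvd_natCard s) hk)
  apply congrArg
  ext x
  rw [MulAction.mem_fixedBy, MulAction.mem_fixedBy]
  constructor
  · intro h
    have h2 := h1 (s ^ k) m x h
    rwa [hm] at h2
  · exact h1 s k x

/-- **Three good characters, invariant under all automorphisms** -/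
theorem ginv3 (τ : MulAut S) : GInv3 τ := by
  obtain ⟨f, hf, huniq⟩ := exists_uniq hact
  have hS : Nat.card S ≠ 0 := Nat.card_pos.ne'
  -- invariance under automorphisms
  have haut : ∀ i, ∀ x, (f i : S → ℂ) (τ x) = (f i : S → ℂ) x := by
    intro i x
    let θ : IrrCharacter S := ⟨(f i : S → ℂ) ∘ τ.toMonoidHom, isIrr_comp τ.toMonoidHom τ.surjective (f i).2⟩
    have h1 : θ = f i := by
      refine huniq i θ ?_ ?_
      · rw [← (hf i).1]
        show ⌊((f i : S → ℂ) (τ 1)).re⌋₊ = ⌊((f i : S → ℂ) 1).re⌋₊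
        rw [map_one]
      · have h2 := Clifford.classInner_comp_mulEquiv τ (permC S X) (f i : S → ℂ)
        have h3 : permC S X ∘ τ = permC S X := funext fun s => permC_aut hact τ s
        rw [h3] at h2
        intro h4
        exact (hf i).2 (h2.symm.trans h4)
    exact congrFun (congrArg Subtype.val h1) x
  -- rational values
  have hrat : ∀ i, ∀ (k : ℕ), k.Coprime (Nat.card S) → ∀ x, (f i : S → ℂ) (x ^ k) = (f i : S → ℂ) x := by
    intro i k hk x
    have h1 : Twist.pw hk (f i) = f i := by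
      refine huniq i _ ?_ ?_
      · rw [← (hf i).1]
        show ⌊((f i : S → ℂ) (1 ^ k)).re⌋₊ = ⌊((f i : S → ℂ) 1).re⌋₊
        rw [one_pow]
      · have h2 := Twist.classInner_pow hk (permC S X) (f i : S → ℂ)
        have h3 : (fun g => permC S X (g ^ k)) = permC S X := funext fun s => permC_pow hk s
        rw [h3] at h2
        intro h4
        exact (hf i).2 (h2.symm.trans h4)
    have h2 := congrFun (congrArg Subtype.val h1) x
    exact h2
  have hgood : ∀ i, ¬ 2 ∣ deg5 i → Good (f i : S → ℂ) := by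
    intro i hi
    have hodd : OddIrr (f i : S → ℂ) := ⟨(f i).2, by rw [(hf i).1]; exact hi⟩
    refine ⟨hodd, SigFix.of_pow (hrat i), InB0.of_real hodd fun x => ?_⟩
    have h1 : (f i : S → ℂ) x⁻¹ = (f i : S → ℂ) x := by
      have hc : (Nat.card S - 1).Coprime (Nat.card S) := by
        exact (Nat.coprime_self_sub_left (Nat.one_le_iff_ne_zero.2 hS)).2 (Nat.coprime_one_left _)
      have h2 := hrat i _ hc x
      have h3 : x ^ (Nat.card S - 1) = x⁻¹ := by
        rw [eq_inv_iff_mul_eq_one, ← pow_succ, Nat.sub_add_cancel (Nat.one_le_iff_ne_zero.2 hS), pow_card_eq_one']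
      rwa [h3] at h2
    rw [isCharacter_apply_inv (isIrr_isCharacter (f i).2)] at h1
    exact Complex.conj_eq_iff_im.1 h1
  refine ⟨![(f 0 : S → ℂ), (f 2 : S → ℂ), (f 4 : S → ℂ)], ?_, ?_⟩
  · have hd : ∀ i j, (f i : S → ℂ) = (f j : S → ℂ) → i = j := by
      intro i j h
      apply deg5_inj
      rw [← (hf i).1, ← (hf j).1, h]
    intro i j hij
    fin_cases i <;> fin_cases j <;> first | rfl | exact absurd (hd _ _ hij) (by decide)
  · intro i
    fin_cases i
    exacts [⟨hgood 0 (by decide), haut 0⟩, ⟨hgood 2 (by decide), haut 2⟩, ⟨hgood 4 (by decide), haut 4⟩]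

end S

end Cfsg.Agent.H189.K547.TitsChar


set_option autoImplicit false
set_option maxRecDepth 100000

namespace Cfsg.Agent.H189.K547.Tits

open Cfsg Cfsg.Agent.H601.K4 Cfsg.Agent.H821.K547
open Cfsg.Agent.SporadicB.RuTits
open Cfsg.Agent.H707.RowTitsModel
open MulAction

universe u

/-- squares of automorphisms are inner, from the index -/
theorem sq_inner_of_index {K : Type*} [Group K] (h : (MulAut.conj : K →* MulAut K).range.index ∣ 2) {S : Type*} [Group S]
    (e : K ≃* S) (τ : MulAut S) : ∃ s : S, ∀ x, (τ ^ 2) x = s * x * s⁻¹ := by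
  have hconj : ∀ (β : MulAut K) (k : K), β * MulAut.conj k * β⁻¹ = MulAut.conj (β k) := by
    intro β k
    ext x
    show β (k * β⁻¹ x * k⁻¹) = β k * x * (β k)⁻¹
    rw [map_mul, map_mul, map_inv, MulAut.apply_inv_self]
  have hn : ((MulAut.conj : K →* MulAut K).range).Normal := by
    refine ⟨?_⟩
    rintro _ ⟨k, rfl⟩ β
    exact ⟨β k, (hconj β k).symm⟩
  let τ' : MulAut K := (e.trans τ).trans e.symm
  have h1 : τ' ^ 2 ∈ (MulAut.conj : K →* MulAut K).range := by
    have h2 := Subgroup.pow_index_mem (MulAut.conj : K →* MulAut K).range τ'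
    obtain ⟨c, hc⟩ := h
    rw [hc, pow_mul]
    exact Subgroup.pow_mem _ h2 c
  obtain ⟨k, hk⟩ := h1
  refine ⟨e k, fun x => ?_⟩
  have h2 := congrArg (fun β : MulAut K => e (β (e.symm x))) hk
  have h3 : e ((τ' ^ 2) (e.symm x)) = (τ ^ 2) x := by
    rw [pow_two, pow_two]
    show e (e.symm (τ (e (e.symm (τ (e (e.symm x))))))) = τ (τ x)
    simp only [MulEquiv.apply_symm_apply]
  have h4 : e (MulAut.conj k (e.symm x)) = e k * x * (e k)⁻¹ := by
    rw [MulAut.conj_apply, map_mul, map_mul, map_inv, MulEquiv.apply_symm_apply]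
  rw [← h3, ← h4]
  exact h2.symm

/-- **the row of a group isomorphic to `T`** -/
theorem row_of_equiv {S : Type u} [Group S] (e : T ≃* S) (e' : Nonempty (S ≃* ↥Cfsg.Agent.TitsK.TT)) : Row S := by
  have : Finite T := Nat.finite_of_card_ne_zero (by rw [card_T]; norm_num)
  have : Finite S := Finite.of_equiv T e.toEquiv
  have : IsSimpleGroup T := isSimpleGroup_T
  have hs : IsSimpleGroup S := e.symm.isSimpleGroup
  have hna : ¬ IsMulCommutative S := by
    intro hc
    have h1 : IsMulCommutative S := hc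
    have h2 : (Nat.card S).Prime := by
      let _ : CommGroup S := { (inferInstance : Group S) with mul_comm := h1.is_comm.comm }
      exact IsSimpleGroup.prime_card
    rw [← Nat.card_congr e.toEquiv, card_T] at h2
    exact absurd h2 (by norm_num)
  obtain ⟨e'⟩ := e'
  refine ⟨Or.inr (TitsX.xcond e), fun τ _ hni => ⟨fun _ => ?_, fun _ => ?_⟩⟩
  · have hfin : Finite Cfsg.Agent.FourTwo.Base.LL := by infer_instance
    exact Ext.d3_autExt_two hna (sq_inner_of_index Cfsg.Agent.TitsK.tdata.index_inn e'.symm τ) hni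
      fun P α _ hα => TitsInv.exists_f e P α hα
  · let _ : MulAction S X := MulAction.compHom X e.symm.toMonoidHom
    let _ : Fintype S := Fintype.ofFinite S
    exact TitsChar.ginv3 (e := e.symm) (fun _ _ => rfl) τ

/-- **S4547, the row of the Tits group** -/
theorem row {S : Type u} [Group S] (h : Lie.IsoTits S) : Row S := by
  obtain ⟨e⟩ := h
  obtain ⟨f⟩ := H707.RowTits.equiv
  obtain ⟨g⟩ := Cfsg.Agent.TitsK.exists_equiv
  exact row_of_equiv (e.trans f).symm ⟨e.trans g⟩

end Cfsg.Agent.H189.K547.Tits
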